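import Mathlib

/-!
# Quadratic action and abelian `p'`-groups (the elementary substitute for the `SL(2,p)` lemma)

Shared library file of seat `lead`.  Everything lives in `Cfsg.Agent.Lib.lead`.

Main results:

* `ring_quadratic` : in a ring where `2` is invertible (by a central element), if `N * N = 0`,
  `y` is a unit commuting with `(1+N) y (1-N)` and with `(1+2N) y (1-2N)`, then
  `(1+N) y (1-N) y⁻¹ = 1 + M` with `M * M = 0`.
* `mulAut_quadratic` : `A` a commutative group of odd exponent `p`, `x y : MulAut A`, `x` acting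
  quadratically, `y` commuting with `x y x⁻¹` and with `x² y x⁻²`; then `(x y x⁻¹ y⁻¹) ^ p = 1`.
* `commutator_pow_mem_centralizer_of_quadratic`, `commutator_mem_centralizer_of_quadratic` :
  the same inside a group `G` acting by conjugation on a normal abelian subgroup `V` of
  exponent `p`.
-/

set_option autoImplicit false

namespace Cfsg.Agent.Lib.lead

open scoped commutatorElement

/-- Ring form of the quadratic lemma. -/
theorem ring_quadratic {R : Type*} [Ring R] (N y yi h : R) (hN : N * N = 0)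
    (hy1 : y * yi = 1) (hy2 : yi * y = 1) (h2 : 2 * h = 1) (hh : ∀ r : R, h * r = r * h)
    (hc1 : y * ((1 + N) * y * (1 - N)) = (1 + N) * y * (1 - N) * y)
    (hc2 : y * ((1 + 2 * N) * y * (1 - 2 * N)) = (1 + 2 * N) * y * (1 - 2 * N) * y) :
    ∃ M : R, (1 + N) * y * (1 - N) * yi = 1 + M ∧ M * M = 0 := by
  obtain ⟨D, hD⟩ : ∃ D : R, D = N * y - y * N := ⟨_, rfl⟩
  obtain ⟨E, hE⟩ : ∃ E : R, E = N * y * N := ⟨_, rfl⟩
  have e1 : (1 + N) * y * (1 - N) = y + D - E := by rw [hD, hE]; noncomm_ring
  have e2 : (1 + 2 * N) * y * (1 - 2 * N) = y + 2 * D - 4 * E := by rw [hD, hE]; noncomm_ring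
  rw [e1] at hc1
  rw [e2] at hc2
  -- `E` commutes with `y`
  have hEy2 : y * (2 * E) = (2 * E) * y := by
    have a1 : y * (2 * E) = 2 * (y * (y + D - E)) - y * y - y * (y + 2 * D - 4 * E) := by
      noncomm_ring
    have a2 : (2 * E) * y = 2 * ((y + D - E) * y) - y * y - (y + 2 * D - 4 * E) * y := by
      noncomm_ring
    rw [a1, a2, hc1, hc2]
  have hEy : y * E = E * y := by
    have h4 : y * E = h * (y * (2 * E)) := by
      calc y * E = y * ((2 * h) * E) := by rw [h2, one_mul]
        _ = y * (h * (2 * E)) := by rw [← hh 2]; simp only [mul_assoc]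
        _ = h * (y * (2 * E)) := by rw [← mul_assoc, ← hh y, mul_assoc]
    have h5 : E * y = h * ((2 * E) * y) := by
      calc E * y = ((2 * h) * E) * y := by rw [h2, one_mul]
        _ = h * ((2 * E) * y) := by rw [← hh 2]; simp only [mul_assoc]
    rw [h4, h5, hEy2]
  have hDy : y * D = D * y := by
    have a1 : y * D = y * (y + D - E) - y * y + y * E := by noncomm_ring
    have a2 : D * y = (y + D - E) * y - y * y + E * y := by noncomm_ring
    rw [a1, a2, hc1, hEy]
  have hEE : E * E = 0 := by
    have : E * E = N * y * (N * N) * y * N := by rw [hE]; noncomm_ring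
    rw [this, hN]; noncomm_ring
  have hDN : D * N = E := by
    have : D * N = N * y * N - y * (N * N) := by rw [hD]; noncomm_ring
    rw [this, hN, hE]; noncomm_ring
  have hND : N * D = -E := by
    have : N * D = (N * N) * y - N * y * N := by rw [hD]; noncomm_ring
    rw [this, hN, hE]; noncomm_ring
  have hDD : D * D = 0 := by
    have a1 : D * D = (D * N) * y - (D * y) * N := by
      have : D * D = D * (N * y - y * N) := by rw [← hD]
      rw [this]; noncomm_ring
    have a2 : (D * y) * N = y * (D * N) := by rw [← hDy, mul_assoc]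
    rw [a1, a2, hDN, hEy, sub_self]
  have hEN : E * N = 0 := by
    have : E * N = N * y * (N * N) := by rw [hE]; noncomm_ring
    rw [this, hN, mul_zero]
  have hNE : N * E = 0 := by
    have : N * E = (N * N) * y * N := by rw [hE]; noncomm_ring
    rw [this, hN]; noncomm_ring
  have hDE : D * E = 0 := by
    have a1 : D * E = (D * N) * y * N := by rw [hE]; noncomm_ring
    have a2 : E * y * N = y * (E * N) := by rw [← hEy, mul_assoc]
    rw [a1, hDN, a2, hEN, mul_zero]
  have hED : E * D = 0 := by
    have a1 : E * D = N * y * (N * D) := by rw [hE]; noncomm_ring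
    have a2 : N * y * (-E) = -(N * (y * E)) := by noncomm_ring
    have a3 : N * (E * y) = (N * E) * y := by noncomm_ring
    rw [a1, hND, a2, hEy, a3, hNE]; noncomm_ring
  have hsq : (D - E) * (D - E) = 0 := by
    have : (D - E) * (D - E) = D * D - D * E - E * D + E * E := by noncomm_ring
    rw [this, hDD, hDE, hED, hEE]; noncomm_ring
  have hcomm : (D - E) * y = y * (D - E) := by
    have a1 : (D - E) * y = D * y - E * y := by noncomm_ring
    have a2 : y * (D - E) = y * D - y * E := by noncomm_ring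
    rw [a1, a2, hDy, hEy]
  have hcommi : yi * (D - E) = (D - E) * yi := by
    have a1 : yi * (D - E) = yi * ((D - E) * y) * yi := by
      have : yi * ((D - E) * y) * yi = yi * (D - E) * (y * yi) := by noncomm_ring
      rw [this, hy1, mul_one]
    have a2 : yi * (y * (D - E)) * yi = (yi * y) * (D - E) * yi := by noncomm_ring
    rw [a1, hcomm, a2, hy2, one_mul]
  refine ⟨(D - E) * yi, ?_, ?_⟩
  · rw [e1]
    have : (y + D - E) * yi = y * yi + (D - E) * yi := by noncomm_ring
    rw [this, hy1]
  · have a1 : (D - E) * yi * ((D - E) * yi) = (D - E) * (yi * (D - E)) * yi := by noncomm_ring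
    have a2 : (D - E) * ((D - E) * yi) * yi = (D - E) * (D - E) * yi * yi := by noncomm_ring
    rw [a1, hcommi, a2, hsq]; noncomm_ring

/-- in a ring, a left inverse of `1 + N` with `N * N = 0` is `1 - N` -/
theorem inv_one_add_of_sq_zero {R : Type*} [Ring R] (N Xi : R) (hN : N * N = 0)
    (h : Xi * (1 + N) = 1) : Xi = 1 - N := by
  have a1 : (1 + N) * (1 - N) = 1 - N * N := by noncomm_ring
  have a2 : Xi = Xi * ((1 + N) * (1 - N)) := by rw [a1, hN, sub_zero, mul_one]
  rw [a2, ← mul_assoc, h, one_mul]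

theorem one_add_sq_of_sq_zero {R : Type*} [Ring R] (N : R) (hN : N * N = 0) :
    (1 + N) ^ 2 = 1 + 2 * N := by
  have : (1 + N) ^ 2 = 1 + 2 * N + N * N := by noncomm_ring
  rw [this, hN, add_zero]

theorem two_mul_sq_zero {R : Type*} [Ring R] (N : R) (hN : N * N = 0) :
    (2 * N) * (2 * N) = 0 := by
  have : (2 * N) * (2 * N) = 4 * (N * N) := by noncomm_ring
  rw [this, hN, mul_zero]

theorem one_add_pow_of_sq_zero {R : Type*} [Ring R] (M : R) (hM : M * M = 0) (n : ℕ) :
    (1 + M) ^ n = 1 + n * M := by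
  induction n with
  | zero => simp
  | succ k ih =>
    rw [pow_succ, ih]
    calc (1 + (k : R) * M) * (1 + M) = 1 + (k : R) * M + M + (k : R) * (M * M) := by noncomm_ring
      _ = 1 + ((k + 1 : ℕ) : R) * M := by rw [hM]; push_cast; noncomm_ring

/-- The additive endomorphism attached to a multiplicative automorphism of a commutative group. -/
def autEnd (A : Type*) [CommGroup A] : MulAut A →* AddMonoid.End (Additive A) where
  toFun f := MonoidHom.toAdditive f.toMonoidHom
  map_one' := rfl
  map_mul' _ _ := rfl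

theorem autEnd_apply {A : Type*} [CommGroup A] (f : MulAut A) (a : Additive A) :
    autEnd A f a = Additive.ofMul (f a.toMul) := rfl

theorem autEnd_injective (A : Type*) [CommGroup A] : Function.Injective (autEnd A) := by
  intro f g hfg
  ext a
  have := congrArg (fun F : AddMonoid.End (Additive A) => (F (Additive.ofMul a)).toMul) hfg
  simpa [autEnd_apply] using this

/-- Automorphism form of the quadratic lemma: `A` commutative of odd exponent `p`, `x` quadratic,
`y` commuting with `x y x⁻¹` and `x² y x⁻²`; then `(x y x⁻¹ y⁻¹) ^ p = 1`. -/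
theorem mulAut_quadratic {A : Type*} [CommGroup A] {p : ℕ} (hp : Odd p) (hexp : ∀ a : A, a ^ p = 1)
    (x y : MulAut A) (hquad : ∀ a : A, x (x a / a) = x a / a)
    (h1 : Commute y (x * y * x⁻¹)) (h2 : Commute y (x ^ 2 * y * (x ^ 2)⁻¹)) :
    (x * y * x⁻¹ * y⁻¹) ^ p = 1 := by
  apply autEnd_injective A
  set Φ := autEnd A with hΦ
  set X := Φ x with hX
  set Y := Φ y with hY
  set N : AddMonoid.End (Additive A) := X - 1 with hNdef
  have hpz : ((p : ℕ) : AddMonoid.End (Additive A)) = 0 := by
    ext a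
    have : (p : AddMonoid.End (Additive A)) a = p • a := by
      simp [AddMonoid.End.natCast_apply]
    rw [this]
    change Additive.ofMul (a.toMul ^ p) = 0
    rw [hexp]; rfl
  have hN : N * N = 0 := by
    ext a
    have e : ∀ b : Additive A, N b = Additive.ofMul (x b.toMul / b.toMul) := by
      intro b
      change X b - b = _
      rw [hX, hΦ, autEnd_apply]
      rfl
    change N (N a) = 0
    rw [e a, e]
    change Additive.ofMul (x (x a.toMul / a.toMul) / (x a.toMul / a.toMul)) = 0
    rw [hquad, div_self']; rfl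
  have hX1 : X = 1 + N := by rw [hNdef]; abel
  have hXi : Φ x⁻¹ = 1 - N := by
    apply inv_one_add_of_sq_zero N _ hN
    rw [← hX1, hX, ← map_mul, inv_mul_cancel, map_one]
  have hX2 : Φ (x ^ 2) = 1 + 2 * N := by
    rw [map_pow, ← hX, hX1]
    exact one_add_sq_of_sq_zero N hN
  have hX2i : Φ (x ^ 2)⁻¹ = 1 - 2 * N := by
    apply inv_one_add_of_sq_zero (2 * N) _ (two_mul_sq_zero N hN)
    rw [← hX2, ← map_mul, inv_mul_cancel, map_one]
  have hy1 : Y * Φ y⁻¹ = 1 := by rw [hY, ← map_mul, mul_inv_cancel, map_one]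
  have hy2 : Φ y⁻¹ * Y = 1 := by rw [hY, ← map_mul, inv_mul_cancel, map_one]
  obtain ⟨k, hk⟩ := hp
  have h2h : (2 : AddMonoid.End (Additive A)) * ((k + 1 : ℕ) : AddMonoid.End (Additive A)) = 1 := by
    have : (2 : AddMonoid.End (Additive A)) * ((k + 1 : ℕ) : AddMonoid.End (Additive A))
        = ((p : ℕ) : AddMonoid.End (Additive A)) + 1 := by
      rw [hk]; push_cast; noncomm_ring
    rw [this, hpz, zero_add]
  have hc1 : Y * ((1 + N) * Y * (1 - N)) = (1 + N) * Y * (1 - N) * Y := by
    have := congrArg Φ h1.eq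
    simp only [map_mul, hXi] at this
    rw [← hX, ← hY, hX1] at this
    exact this
  have hc2 : Y * ((1 + 2 * N) * Y * (1 - 2 * N)) = (1 + 2 * N) * Y * (1 - 2 * N) * Y := by
    have := congrArg Φ h2.eq
    simp only [map_mul, hX2i, hX2] at this
    rw [← hY] at this
    exact this
  obtain ⟨M, hM1, hM2⟩ := ring_quadratic N Y (Φ y⁻¹) ((k + 1 : ℕ) : AddMonoid.End (Additive A)) hN
    hy1 hy2 h2h (fun r => Nat.cast_comm (k + 1) r) hc1 hc2
  rw [map_pow, map_one, map_mul, map_mul, map_mul, hXi, ← hX, ← hY, hX1, hM1,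
    one_add_pow_of_sq_zero M hM2, hpz, zero_mul, add_zero]

/-- `g` centralizes the normal subgroup `V` iff it acts trivially on it by conjugation. -/
theorem conjNormal_eq_one_iff {G : Type*} [Group G] (V : Subgroup G) [V.Normal] (g : G) :
    (MulAut.conjNormal g : MulAut V) = 1 ↔ g ∈ Subgroup.centralizer (V : Set G) := by
  constructor
  · intro h v hv
    have h3 := congrArg (fun f : MulAut V => ((f ⟨v, hv⟩ : V) : G)) h
    simp only [MulAut.conjNormal_apply, MulAut.one_apply] at h3
    have h4 : g * v = v * g := by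
      calc g * v = g * v * g⁻¹ * g := by group
        _ = v * g := by rw [h3]
    exact h4.symm
  · intro h
    ext v
    have h3 := h (v : G) v.2
    simp only [MulAut.conjNormal_apply, MulAut.one_apply]
    rw [← h3]; group

/-- **Quadratic lemma, group form.**  `V` a normal abelian subgroup of exponent `p` (`p` odd),
`x` acting quadratically on `V`, and `y` commuting modulo `C_G(V)` with `x y x⁻¹` and with
`x² y x⁻²`.  Then the `p`-th power of `⁅x, y⁆` centralizes `V`. -/
theorem commutator_pow_mem_centralizer_of_quadratic {G : Type*} [Group G] (V : Subgroup G) [V.Normal]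
    {p : ℕ} (hp : Odd p) (hcomm : ∀ a ∈ V, ∀ b ∈ V, a * b = b * a) (hexp : ∀ v ∈ V, v ^ p = 1)
    (x y : G) (hquad : ∀ v ∈ V, x * (x * v * x⁻¹ * v⁻¹) * x⁻¹ = x * v * x⁻¹ * v⁻¹)
    (h1 : ⁅y, x * y * x⁻¹⁆ ∈ Subgroup.centralizer (V : Set G))
    (h2 : ⁅y, x ^ 2 * y * (x ^ 2)⁻¹⁆ ∈ Subgroup.centralizer (V : Set G)) :
    ⁅x, y⁆ ^ p ∈ Subgroup.centralizer (V : Set G) := by
  let _ : CommGroup V :=
    { (inferInstance : Group V) with
      mul_comm := fun a b => Subtype.ext (hcomm a a.2 b b.2) }
  have key := mulAut_quadratic (A := V) hp (fun a => Subtype.ext (by simpa using hexp a a.2))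
    (MulAut.conjNormal x) (MulAut.conjNormal y)
    (by
      intro a
      apply Subtype.ext
      have := hquad a a.2
      simp only [MulAut.conjNormal_apply, div_eq_mul_inv, Subgroup.coe_mul, Subgroup.coe_inv]
      exact this)
    (by
      rw [← conjNormal_eq_one_iff, map_commutatorElement, commutatorElement_eq_one_iff_commute] at h1
      simpa [map_mul, map_inv] using h1)
    (by
      rw [← conjNormal_eq_one_iff, map_commutatorElement, commutatorElement_eq_one_iff_commute] at h2
      simpa [map_mul, map_inv, map_pow] using h2)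
  rw [← conjNormal_eq_one_iff, map_pow, commutatorElement_def, map_mul, map_mul, map_mul, map_inv,
    map_inv]
  exact key

/-- **Quadratic lemma, group form, with the `p'`-hypothesis.**  If moreover some power
`⁅x, y⁆ ^ m` with `m` prime to `p` centralizes `V` (for instance `y` lies in a normal subgroup
`K` with `K / C_K(V)` a `p'`-group), then `⁅x, y⁆` centralizes `V`. -/
theorem commutator_mem_centralizer_of_quadratic {G : Type*} [Group G] (V : Subgroup G) [V.Normal]
    {p : ℕ} (hp : Odd p) (hcomm : ∀ a ∈ V, ∀ b ∈ V, a * b = b * a) (hexp : ∀ v ∈ V, v ^ p = 1)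
    (x y : G) (hquad : ∀ v ∈ V, x * (x * v * x⁻¹ * v⁻¹) * x⁻¹ = x * v * x⁻¹ * v⁻¹)
    (h1 : ⁅y, x * y * x⁻¹⁆ ∈ Subgroup.centralizer (V : Set G))
    (h2 : ⁅y, x ^ 2 * y * (x ^ 2)⁻¹⁆ ∈ Subgroup.centralizer (V : Set G))
    (m : ℕ) (hm : m.Coprime p) (h3 : ⁅x, y⁆ ^ m ∈ Subgroup.centralizer (V : Set G)) :
    ⁅x, y⁆ ∈ Subgroup.centralizer (V : Set G) := by
  have h4 := commutator_pow_mem_centralizer_of_quadratic V hp hcomm hexp x y hquad h1 h2
  have hb : (m : ℤ) * Nat.gcdA m p + (p : ℤ) * Nat.gcdB m p = 1 := by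
    have := Nat.gcd_eq_gcd_ab m p
    rw [hm] at this
    exact_mod_cast this.symm
  have : ⁅x, y⁆ = (⁅x, y⁆ ^ m) ^ (Nat.gcdA m p) * (⁅x, y⁆ ^ p) ^ (Nat.gcdB m p) := by
    rw [← zpow_natCast, ← zpow_natCast, ← zpow_mul, ← zpow_mul, ← zpow_add, hb, zpow_one]
  rw [this]
  exact Subgroup.mul_mem _ (Subgroup.zpow_mem _ h3 _) (Subgroup.zpow_mem _ h4 _)

end Cfsg.Agent.Lib.lead
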