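import Mathlib
import Cfsg.Prelude.Def_Transfer
import Cfsg.Agent.Lib.lead.PNil
import Cfsg.Agent.Lib.lead.Quadratic
import Cfsg.Agent.Lib.helper13.Thompson2
import Cfsg.Agent.Lib.helper13.ThompsonQuot
import Cfsg.Agent.Lib.helper13.SylowIn
import Cfsg.Agent.Lib.helper37.CoprimeGen
import Cfsg.Agent.S0602
import Cfsg.Agent.S0607

/-!
# Thompson's normal `p`-complement theorem (lead)

`thompson_pn`: for `p` odd and `P` a Sylow `p`-subgroup of the finite group `G`, if `N_G(J(P))`
and `C_G(Z(P))` are `p`-nilpotent then so is `G` (in the `PN` form of `Lib/lead/PNil.lean`).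
-/

set_option autoImplicit false

namespace Cfsg.Agent.Lib.lead

open Subgroup Cfsg
open scoped commutatorElement

universe u

/-- The statement of Thompson's theorem for the group `X`. -/
def ThmAt (p : ℕ) (X : Type u) [Group X] : Prop :=
  ∀ P : Sylow p X, PN p (normalizer (thompsonSubgroupOf p (P : Subgroup X) : Set X)) →
    PN p (centralizer (((P : Subgroup X) ⊓ centralizer ((P : Subgroup X) : Set X) : Subgroup X)
      : Set X)) → PN p (⊤ : Subgroup X)

theorem centralizer_subgroupOf {G : Type*} [Group G] (X M : Subgroup G) (hX : X ≤ M) :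
    centralizer ((X.subgroupOf M : Subgroup M) : Set M) = (centralizer (X : Set G)).subgroupOf M := by
  ext ⟨m, hm⟩
  simp only [mem_centralizer_iff, mem_subgroupOf, SetLike.mem_coe]
  constructor
  · intro h x hx
    have := h ⟨x, hX hx⟩ (by simpa [mem_subgroupOf] using hx)
    exact congrArg Subtype.val this
  · intro h x hx
    exact Subtype.ext (h x hx)

theorem card_quot_lt {G : Type*} [Group G] [Finite G] (H : Subgroup G) [H.Normal] (h : H ≠ ⊥) :
    Nat.card (G ⧸ H) < Nat.card G := by
  rw [card_eq_card_quotient_mul_card_subgroup H]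
  exact lt_mul_of_one_lt_right Nat.card_pos ((one_lt_card_iff_ne_bot H).mpr h)

theorem card_lt_of_ne_top {G : Type*} [Group G] [Finite G] (M : Subgroup G) (h : M ≠ ⊤) :
    Nat.card M < Nat.card G :=
  lt_of_le_of_ne (card_le_card_group M) (fun h' => h ((card_eq_iff_eq_top M).mp h'))

/-- Thompson's statement for the subgroup `M`, read inside `G`. -/
theorem thmAt_subgroup {p : ℕ} [Fact p.Prime] {G : Type u} [Group G] [Finite G] (M : Subgroup G)
    (hM : ThmAt p M) (R : Subgroup G) (hRM : R ≤ M) (hR : IsPGroup p R)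
    (hnd : ¬ p ∣ R.relIndex M)
    (hJ : PN p (normalizer (thompsonSubgroupOf p R : Set G) ⊓ M))
    (hZ : PN p (centralizer ((R ⊓ centralizer (R : Set G) : Subgroup G) : Set G) ⊓ M)) :
    PN p M := by
  have h1 : IsPGroup p (R.subgroupOf M) := hR.comap_subtype
  have hR' : ((h1.toSylow hnd : Sylow p M) : Subgroup M) = R.subgroupOf M :=
    IsPGroup.toSylow_coe _ _
  have key := hM (h1.toSylow hnd) ?_ ?_
  · exact (PN_top_subtype M).mp key
  · rw [hR']
    have hJle : thompsonSubgroupOf p R ≤ M :=
      (Cfsg.Agent.Lib.helper13.thompsonSubgroupOf_le_self R).trans hRM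
    have hJ' : thompsonSubgroupOf p (R.subgroupOf M) = (thompsonSubgroupOf p R).subgroupOf M := by
      have h := Cfsg.Agent.Lib.helper13.thompsonSubgroupOf_map_of_injOn (p := p) M.subtype
        (R.subgroupOf M) (M.subtype_injective.injOn)
      rw [map_subgroupOf_eq_of_le hRM] at h
      rw [h]
      exact (comap_map_eq_self_of_injective M.subtype_injective _).symm
    rw [hJ', ← subgroupOf_normalizer_eq hJle, PN_subgroupOf]
    exact hJ
  · rw [hR']
    have hZ' : (R.subgroupOf M ⊓ centralizer ((R.subgroupOf M : Subgroup M) : Set M) : Subgroup M)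
        = (R ⊓ centralizer (R : Set G)).subgroupOf M := by
      rw [centralizer_subgroupOf R M hRM]
      ext x
      simp [mem_subgroupOf]
    rw [hZ', centralizer_subgroupOf _ M (inf_le_left.trans hRM), PN_subgroupOf]
    exact hZ

/-- Passing to the quotient by a normal `p'`-subgroup. -/
theorem PN_top_of_normal_pprime {p : ℕ} [Fact p.Prime] {G : Type u} [Group G] [Finite G]
    (T : Subgroup G) [T.Normal] (hT : (Nat.card T).Coprime p) (hQ : ThmAt p (G ⧸ T))
    (P : Sylow p G)
    (hJ : PN p (normalizer (thompsonSubgroupOf p (P : Subgroup G) : Set G)))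
    (hZ : PN p (centralizer (((P : Subgroup G) ⊓ centralizer ((P : Subgroup G) : Set G)
      : Subgroup G) : Set G))) :
    PN p (⊤ : Subgroup G) := by
  have hinj : Set.InjOn (QuotientGroup.mk' T) ((P : Subgroup G) : Set G) := by
    intro x hx y hy hxy
    have h1 : x⁻¹ * y ∈ T := by
      rw [← QuotientGroup.eq_one_iff, QuotientGroup.mk_mul, QuotientGroup.mk_inv]
      have : (x : G ⧸ T) = (y : G ⧸ T) := hxy
      rw [this, inv_mul_cancel]
    have h2 := Cfsg.Agent.Lib.helper13.eq_one_of_mem_pGroup_of_mem_coprime hT P.isPGroup'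
      ((P : Subgroup G).mul_mem ((P : Subgroup G).inv_mem hx) hy) h1
    exact inv_mul_eq_one.mp h2
  have hker : ∀ g ∈ (QuotientGroup.mk' T).ker, (orderOf g).Coprime p := by
    intro g hg
    rw [QuotientGroup.ker_mk'] at hg
    exact Nat.Coprime.coprime_dvd_left (T.orderOf_dvd_natCard hg) hT
  apply PN_top_of_map (QuotientGroup.mk' T) hker
  apply hQ (P.mapSurjective (QuotientGroup.mk'_surjective T))
  · rw [Sylow.coe_mapSurjective,
      Cfsg.Agent.Lib.helper13.thompsonSubgroupOf_map_of_injOn (QuotientGroup.mk' T) _ hinj]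
    refine (hJ.map (QuotientGroup.mk' T)).mono ?_
    intro x hx
    obtain ⟨g, rfl⟩ := QuotientGroup.mk'_surjective T x
    have hg : ∀ x ∈ thompsonSubgroupOf p (P : Subgroup G),
        g * x * g⁻¹ ∈ thompsonSubgroupOf p (P : Subgroup G) ⊔ T := by
      intro x hxJ
      have h1 := (mem_normalizer_iff.mp hx (QuotientGroup.mk' T x)).mp (mem_map_of_mem _ hxJ)
      obtain ⟨j, hj, hj'⟩ := h1
      have h2 : j⁻¹ * (g * x * g⁻¹) ∈ T := by
        rw [← QuotientGroup.eq_one_iff]
        have : QuotientGroup.mk' T (j⁻¹ * (g * x * g⁻¹)) = 1 := by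
          rw [map_mul, map_inv, hj', map_mul, map_mul, map_inv]
          group
        exact this
      have : g * x * g⁻¹ = j * (j⁻¹ * (g * x * g⁻¹)) := by group
      rw [this]
      exact mul_mem_sup hj h2
    obtain ⟨y, hy, b, hb, rfl⟩ := Cfsg.Agent.Lib.helper13.exists_mul_normalizer_of_conj_mem_sup T
      (thompsonSubgroupOf p (P : Subgroup G)) hT
      (P.isPGroup'.to_le (Cfsg.Agent.Lib.helper13.thompsonSubgroupOf_le_self _)) g hg
    refine ⟨b, hb, ?_⟩
    have hy1 : QuotientGroup.mk' T y = 1 := (QuotientGroup.eq_one_iff y).mpr hy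
    rw [map_mul, hy1, one_mul]
  · rw [Sylow.coe_mapSurjective]
    refine (hZ.map (QuotientGroup.mk' T)).mono ?_
    intro x hx
    obtain ⟨c, rfl⟩ := QuotientGroup.mk'_surjective T x
    have hc : ∀ z ∈ ((P : Subgroup G) ⊓ centralizer ((P : Subgroup G) : Set G) : Subgroup G),
        c * z * c⁻¹ * z⁻¹ ∈ T := by
      intro z hz
      have hz' : QuotientGroup.mk' T z ∈ ((P : Subgroup G).map (QuotientGroup.mk' T) ⊓
          centralizer (((P : Subgroup G).map (QuotientGroup.mk' T) : Subgroup (G ⧸ T)) : Set (G ⧸ T))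
            : Subgroup (G ⧸ T)) := by
        refine mem_inf.mpr ⟨mem_map_of_mem _ hz.1, ?_⟩
        rw [mem_centralizer_iff]
        rintro _ ⟨u, hu, rfl⟩
        rw [← map_mul, ← map_mul, mem_centralizer_iff.mp hz.2 u hu]
      have h1 := mem_centralizer_iff.mp hx _ hz'
      rw [← QuotientGroup.eq_one_iff]
      have : QuotientGroup.mk' T (c * z * c⁻¹ * z⁻¹) = 1 := by
        rw [map_mul, map_mul, map_mul, map_inv, map_inv, ← h1]
        group
      exact this
    obtain ⟨y, hy, a, ha, rfl⟩ := Cfsg.Agent.Lib.helper13.exists_mul_centralizer_of_commutator_mem T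
      ((P : Subgroup G) ⊓ centralizer ((P : Subgroup G) : Set G)) hT
      (P.isPGroup'.to_le inf_le_left) c hc
    refine ⟨a, ha, ?_⟩
    have hy1 : QuotientGroup.mk' T y = 1 := (QuotientGroup.eq_one_iff y).mpr hy
    rw [map_mul, hy1, one_mul]

/-- Passing to the quotient by a normal subgroup `H`, given `p`-nilpotent normalizers of the
preimages of `J(P/H)` and `Z(P/H)`. -/
theorem PN_quot_of_normalizers {p : ℕ} [Fact p.Prime] {G : Type u} [Group G] [Finite G]
    (H : Subgroup G) [H.Normal] (hQ : ThmAt p (G ⧸ H)) (P : Sylow p G)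
    (hJ : PN p (normalizer (((thompsonSubgroupOf p ((P : Subgroup G).map (QuotientGroup.mk' H))).comap
      (QuotientGroup.mk' H) : Subgroup G) : Set G)))
    (hZ : PN p (normalizer ((((P : Subgroup G).map (QuotientGroup.mk' H) ⊓
      centralizer (((P : Subgroup G).map (QuotientGroup.mk' H) : Subgroup (G ⧸ H)) : Set (G ⧸ H))
        : Subgroup (G ⧸ H)).comap (QuotientGroup.mk' H) : Subgroup G) : Set G))) :
    PN p (⊤ : Subgroup (G ⧸ H)) := by
  apply hQ (P.mapSurjective (QuotientGroup.mk'_surjective H))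
  · rw [Sylow.coe_mapSurjective]
    refine (hJ.map (QuotientGroup.mk' H)).mono ?_
    intro x hx
    obtain ⟨g, rfl⟩ := QuotientGroup.mk'_surjective H x
    exact ⟨g, le_normalizer_comap _ hx, rfl⟩
  · rw [Sylow.coe_mapSurjective]
    refine (hZ.map (QuotientGroup.mk' H)).mono ?_
    intro x hx
    obtain ⟨g, rfl⟩ := QuotientGroup.mk'_surjective H x
    exact ⟨g, le_normalizer_comap _ (centralizer_le_normalizer _ hx), rfl⟩

/-- A `p'`-element normalizing an abelian `p`-group and centralizing its elements of order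
dividing `p` centralizes it. -/
theorem conj_eq_of_conj_eq_omega {p : ℕ} {G : Type*} [Group G] (Z : Subgroup G)
    (hZc : ∀ a ∈ Z, ∀ b ∈ Z, a * b = b * a) (g : G) (hgZ : ∀ z ∈ Z, g * z * g⁻¹ ∈ Z)
    (hg : (orderOf g).Coprime p) (h1 : ∀ z ∈ Z, z ^ p = 1 → g * z * g⁻¹ = z) :
    ∀ (k : ℕ) (z : G), z ∈ Z → z ^ (p ^ k) = 1 → g * z * g⁻¹ = z := by
  intro k
  induction k with
  | zero =>
    intro z _ hz
    rw [pow_zero, pow_one] at hz
    subst hz
    simp
  | succ k ih =>
    intro z hz hzk
    have hzp : (z ^ p) ^ (p ^ k) = 1 := by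
      rw [← pow_mul, ← pow_succ']
      exact hzk
    have h2 : g * z ^ p * g⁻¹ = z ^ p := ih (z ^ p) (Z.pow_mem hz p) hzp
    have hcZ : g * z * g⁻¹ * z⁻¹ ∈ Z := Z.mul_mem (hgZ z hz) (Z.inv_mem hz)
    have hcomm : Commute (g * z * g⁻¹) z⁻¹ := hZc _ (hgZ z hz) _ (Z.inv_mem hz)
    have hcp : (g * z * g⁻¹ * z⁻¹) ^ p = 1 := by
      rw [hcomm.mul_pow, conj_pow, h2, inv_pow, mul_inv_cancel]
    have hc := h1 _ hcZ hcp
    have hpow : ∀ n : ℕ, g ^ n * z * (g ^ n)⁻¹ = (g * z * g⁻¹ * z⁻¹) ^ n * z := by
      intro n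
      induction n with
      | zero => simp
      | succ n ihn =>
        have e1 : g ^ (n + 1) * z * (g ^ (n + 1))⁻¹ = g * (g ^ n * z * (g ^ n)⁻¹) * g⁻¹ := by
          rw [pow_succ']
          group
        have e2 : g * ((g * z * g⁻¹ * z⁻¹) ^ n * z) * g⁻¹
            = (g * (g * z * g⁻¹ * z⁻¹) ^ n * g⁻¹) * (g * z * g⁻¹) := by group
        have e3 : g * z * g⁻¹ = (g * z * g⁻¹ * z⁻¹) * z := by group
        rw [e1, ihn, e2, ← conj_pow, hc]
        nth_rewrite 2 [e3]
        rw [← mul_assoc, ← pow_succ]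
    have h3 := hpow (orderOf g)
    rw [pow_orderOf_eq_one, one_mul, inv_one, mul_one] at h3
    have h4 : (g * z * g⁻¹ * z⁻¹) ^ orderOf g = 1 := by
      have := h3.symm
      rwa [mul_eq_right] at this
    have h5 : g * z * g⁻¹ * z⁻¹ = 1 := by
      rw [← orderOf_eq_one_iff]
      exact Nat.Coprime.eq_one_of_dvd
        (Nat.Coprime.coprime_dvd_left (orderOf_dvd_of_pow_eq_one h4) hg)
        (orderOf_dvd_of_pow_eq_one hcp)
    exact mul_inv_eq_one.mp h5

/-- `Ω₁(Z(H))`: the elements of `Z(H)` of order dividing `p`. -/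
def omegaZ (p : ℕ) {G : Type*} [Group G] (H : Subgroup G) : Subgroup G where
  carrier := {z | z ∈ H ∧ z ∈ centralizer (H : Set G) ∧ z ^ p = 1}
  one_mem' := ⟨H.one_mem, Subgroup.one_mem _, one_pow _⟩
  mul_mem' := by
    rintro a b ⟨ha, hac, hap⟩ ⟨hb, hbc, hbp⟩
    refine ⟨H.mul_mem ha hb, Subgroup.mul_mem _ hac hbc, ?_⟩
    have hcomm : Commute a b := mem_centralizer_iff.mp hbc a ha
    rw [hcomm.mul_pow, hap, hbp, one_mul]
  inv_mem' := by
    rintro a ⟨ha, hac, hap⟩
    exact ⟨H.inv_mem ha, Subgroup.inv_mem _ hac, by rw [inv_pow, hap, inv_one]⟩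

theorem mem_omegaZ {p : ℕ} {G : Type*} [Group G] (H : Subgroup G) (z : G) :
    z ∈ omegaZ p H ↔ z ∈ H ∧ z ∈ centralizer (H : Set G) ∧ z ^ p = 1 := Iff.rfl

instance omegaZ_normal {p : ℕ} {G : Type*} [Group G] (H : Subgroup G) [hH : H.Normal] :
    (omegaZ p H).Normal :=
  ⟨fun z hz g => by
    rw [mem_omegaZ] at hz ⊢
    exact ⟨hH.conj_mem z hz.1 g, (normal_centralizer (H := H)).conj_mem z hz.2.1 g,
      by rw [conj_pow, hz.2.2, mul_one, mul_inv_cancel]⟩⟩

theorem omegaZ_le {p : ℕ} {G : Type*} [Group G] (H : Subgroup G) : omegaZ p H ≤ H :=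
  fun _ hz => hz.1

theorem le_centralizer_omegaZ {p : ℕ} {G : Type*} [Group G] (H : Subgroup G) :
    H ≤ centralizer (omegaZ p H : Set G) := by
  intro h hh
  rw [mem_centralizer_iff]
  intro w hw
  exact (mem_centralizer_iff.mp hw.2.1 h hh).symm

theorem omegaZ_elemAb {p : ℕ} {G : Type*} [Group G] (H : Subgroup G) :
    IsElementaryAbelian p (omegaZ p H) := by
  rw [Cfsg.Agent.Lib.helper13.isElementaryAbelian_iff]
  exact ⟨fun a ha b hb => mem_centralizer_iff.mp hb.2.1 a ha.1, fun a ha => ha.2.2⟩

/-- Non-triviality of the centre of a nontrivial `p`-subgroup. -/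
theorem inf_centralizer_ne_bot {p : ℕ} [Fact p.Prime] {X : Type*} [Group X] [Finite X]
    (U : Subgroup X) (hU : IsPGroup p U) (hne : U ≠ ⊥) :
    (U ⊓ centralizer (U : Set X) : Subgroup X) ≠ ⊥ := by
  haveI : Nontrivial U := (nontrivial_iff_ne_bot U).mpr hne
  haveI := hU.center_nontrivial
  obtain ⟨z, hz⟩ := exists_ne (1 : Subgroup.center U)
  intro hbot
  have hmem : ((z : U) : X) ∈ (U ⊓ centralizer (U : Set X) : Subgroup X) := by
    refine mem_inf.mpr ⟨(z : U).2, ?_⟩
    rw [mem_centralizer_iff]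
    intro u hu
    have := mem_center_iff.mp z.2 ⟨u, hu⟩
    exact congrArg Subtype.val this
  rw [hbot, mem_bot] at hmem
  apply hz
  exact Subtype.ext (Subtype.ext hmem)

theorem thompsonSubgroupOf_ne_bot {p : ℕ} [Fact p.Prime] {X : Type u} [Group X] [Finite X]
    (U : Subgroup X) (hU : IsPGroup p U) (hne : U ≠ ⊥) : thompsonSubgroupOf p U ≠ ⊥ := by
  have hdvd : p ∣ Nat.card U := by
    rcases hU.card_eq_or_dvd with h | h
    · exact absurd (eq_bot_of_card_eq U h) hne
    · exact h
  have h1 := (Cfsg.Agent.S0602.result (G := U) (p := p)).2 hdvd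
  unfold thompsonSubgroupOf
  rw [Ne, map_eq_bot_iff_of_injective _ U.subtype_injective]
  exact h1

/-- The family of nontrivial `p`-subgroups with non-`p`-nilpotent normalizer. -/
def badFam (p : ℕ) (G : Type*) [Group G] : Set (Subgroup G) :=
  {H | IsPGroup p H ∧ H ≠ ⊥ ∧ ¬ PN p (normalizer (H : Set G))}

/-- Reduction step of Thompson's theorem: in a minimal counterexample there is a nontrivial normal
`p`-subgroup `H ≤ P` which is maximal among the `P`-invariant `p`-subgroups with
non-`p`-nilpotent normalizer. -/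
theorem exists_core {p : ℕ} [hp : Fact p.Prime] {G : Type u} [Group G] [Finite G]
    (IH : ∀ (X : Type u) [Group X] [Finite X], Nat.card X < Nat.card G → ThmAt p X)
    (P : Sylow p G)
    (hJ : PN p (normalizer (thompsonSubgroupOf p (P : Subgroup G) : Set G)))
    (hZ : PN p (centralizer (((P : Subgroup G) ⊓ centralizer ((P : Subgroup G) : Set G)
      : Subgroup G) : Set G)))
    (hG : ¬ PN p (⊤ : Subgroup G)) :
    ∃ H : Subgroup G, H.Normal ∧ IsPGroup p H ∧ H ≠ ⊥ ∧ H ≤ (P : Subgroup G) ∧
      ∀ H' : Subgroup G, IsPGroup p H' → H ≤ H' → (P : Subgroup G) ≤ normalizer (H' : Set G) →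
        ¬ PN p (normalizer (H' : Set G)) → H' = H := by
  classical
  have hPp : IsPGroup p (P : Subgroup G) := P.isPGroup'
  have hne : (badFam p G).Nonempty := by
    by_contra hemp
    rw [Set.not_nonempty_iff_eq_empty] at hemp
    apply hG
    apply PN_top_of_forall_normalizer
    intro Q hQ hQne
    by_contra hcon
    have : Q ∈ badFam p G := ⟨hQ, hQne, hcon⟩
    rw [hemp] at this
    exact this
  obtain ⟨H, ⟨hHp, hHne, hHN⟩, hHmax⟩ := Set.exists_max_image (badFam p G)
    (fun H => Nat.card (normalizer (H : Set G) ⊓ (P : Subgroup G) : Subgroup G)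
      * (Nat.card G + 1) + Nat.card H) (Set.toFinite _) hne
  have hM1 : ∀ H' ∈ badFam p G,
      Nat.card (normalizer (H' : Set G) ⊓ (P : Subgroup G) : Subgroup G)
        ≤ Nat.card (normalizer (H : Set G) ⊓ (P : Subgroup G) : Subgroup G) := by
    intro H' hH'
    have h : Nat.card (normalizer (H' : Set G) ⊓ (P : Subgroup G) : Subgroup G)
        * (Nat.card G + 1) + Nat.card H'
        ≤ Nat.card (normalizer (H : Set G) ⊓ (P : Subgroup G) : Subgroup G)
        * (Nat.card G + 1) + Nat.card H := hHmax H' hH'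
    have h1 : Nat.card H ≤ Nat.card G := card_le_card_group H
    by_contra hlt
    rw [not_le] at hlt
    have h2 := Nat.mul_le_mul_right (Nat.card G + 1) (Nat.succ_le_of_lt hlt)
    nlinarith
  have hM2 : ∀ H' ∈ badFam p G,
      Nat.card (normalizer (H' : Set G) ⊓ (P : Subgroup G) : Subgroup G)
        = Nat.card (normalizer (H : Set G) ⊓ (P : Subgroup G) : Subgroup G) →
      Nat.card H' ≤ Nat.card H := by
    intro H' hH' heq
    have h : Nat.card (normalizer (H' : Set G) ⊓ (P : Subgroup G) : Subgroup G)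
        * (Nat.card G + 1) + Nat.card H'
        ≤ Nat.card (normalizer (H : Set G) ⊓ (P : Subgroup G) : Subgroup G)
        * (Nat.card G + 1) + Nat.card H := hHmax H' hH'
    rw [heq] at h
    exact Nat.le_of_add_le_add_left h
  have hRp : IsPGroup p (normalizer (H : Set G) ⊓ (P : Subgroup G) : Subgroup G) :=
    hPp.to_le inf_le_right
  have hRN : normalizer (H : Set G) ⊓ (P : Subgroup G) ≤ normalizer (H : Set G) := inf_le_left
  -- `R = N ∩ P` is a Sylow `p`-subgroup of `N = N_G(H)`
  have hRnd : ¬ p ∣ (normalizer (H : Set G) ⊓ (P : Subgroup G)).relIndex (normalizer (H : Set G)) := by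
    obtain ⟨S⟩ := (Sylow.nonempty : Nonempty (Sylow p (normalizer (H : Set G))))
    have hS₁p : IsPGroup p ((S : Subgroup (normalizer (H : Set G))).map
        (normalizer (H : Set G)).subtype) := S.isPGroup'.map _
    obtain ⟨g, hg⟩ := Cfsg.Agent.Lib.helper13.exists_conj_map_le_sylow hS₁p P
    have hH' : H.map (MulAut.conj g).toMonoidHom ∈ badFam p G := by
      refine ⟨hHp.map _, ?_, ?_⟩
      · rw [Ne, map_eq_bot_iff_of_injective _ (MulAut.conj g).injective]
        exact hHne
      · rw [← map_equiv_normalizer_eq, PN_map_injective _ (MulAut.conj g).injective]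
        exact hHN
    have h1 := hM1 _ hH'
    have h2 : ((S : Subgroup (normalizer (H : Set G))).map
        (normalizer (H : Set G)).subtype).map (MulAut.conj g).toMonoidHom
        ≤ normalizer ((H.map (MulAut.conj g).toMonoidHom : Subgroup G) : Set G)
          ⊓ (P : Subgroup G) := by
      refine le_inf ?_ hg
      rw [← map_equiv_normalizer_eq]
      exact map_mono (map_subtype_le _)
    have h3 := card_le_of_le h2
    rw [card_map_of_injective (MulAut.conj g).injective, card_subtype] at h3
    have h4 : Nat.card S ≤ Nat.card (normalizer (H : Set G) ⊓ (P : Subgroup G) : Subgroup G) :=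
      h3.trans h1
    have h5 : Nat.card ((normalizer (H : Set G) ⊓ (P : Subgroup G)).subgroupOf
        (normalizer (H : Set G))) = Nat.card (normalizer (H : Set G) ⊓ (P : Subgroup G) : Subgroup G) :=
      Cfsg.Agent.Lib.helper13.card_subgroupOf_of_le hRN
    have h6 : IsPGroup p ((normalizer (H : Set G) ⊓ (P : Subgroup G)).subgroupOf
        (normalizer (H : Set G))) := hRp.comap_subtype
    obtain ⟨b, hb⟩ := (IsPGroup.iff_card).mp h6
    have h7 : Nat.card S = p ^ (Nat.card (normalizer (H : Set G))).factorization p :=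
      S.card_eq_multiplicity
    have h8 : p ^ b ∣ Nat.card (normalizer (H : Set G)) := hb ▸ card_subgroup_dvd_card _
    have h9 : b ≤ (Nat.card (normalizer (H : Set G))).factorization p :=
      (hp.out.pow_dvd_iff_le_factorization Nat.card_pos.ne').mp h8
    have h10 : (Nat.card (normalizer (H : Set G))).factorization p ≤ b := by
      rw [h7, ← h5, hb] at h4
      exact (Nat.pow_le_pow_iff_right hp.out.one_lt).mp h4
    have h11 : Nat.card ((normalizer (H : Set G) ⊓ (P : Subgroup G)).subgroupOf
        (normalizer (H : Set G))) = p ^ (Nat.card (normalizer (H : Set G))).factorization p := by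
      rw [hb, le_antisymm h9 h10]
    have h12 := (Sylow.ofCard _ h11).not_dvd_index
    rw [Sylow.coe_ofCard] at h12
    exact h12
  have hHN' : H ≤ normalizer (H : Set G) := le_normalizer
  have hHR : H ≤ normalizer (H : Set G) ⊓ (P : Subgroup G) := by
    have h1 : IsPGroup p ((normalizer (H : Set G) ⊓ (P : Subgroup G)).subgroupOf
        (normalizer (H : Set G))) := hRp.comap_subtype
    have h2 : IsPGroup p (H.subgroupOf (normalizer (H : Set G))) := hHp.comap_subtype
    have hnd' : ¬ p ∣ ((normalizer (H : Set G) ⊓ (P : Subgroup G)).subgroupOf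
        (normalizer (H : Set G))).index := hRnd
    haveI : (H.subgroupOf (normalizer (H : Set G))).Normal := normal_in_normalizer
    have h3 := (h1.toSylow hnd').is_maximal'
      (Q := ((h1.toSylow hnd' : Sylow p (normalizer (H : Set G))) :
        Subgroup (normalizer (H : Set G))) ⊔ H.subgroupOf (normalizer (H : Set G)))
      (IsPGroup.to_sup_of_normal_right (h1.toSylow hnd').isPGroup' h2) le_sup_left
    intro h hh
    have h4 : (⟨h, hHN' hh⟩ : normalizer (H : Set G)) ∈
        ((h1.toSylow hnd' : Sylow p (normalizer (H : Set G))) :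
          Subgroup (normalizer (H : Set G))) := by
      rw [← h3]
      exact mem_sup_right (by rw [mem_subgroupOf]; exact hh)
    rw [IsPGroup.toSylow_coe, mem_subgroupOf] at h4
    exact h4
  have hHP : H ≤ (P : Subgroup G) := hHR.trans inf_le_right
  have hRne : normalizer (H : Set G) ⊓ (P : Subgroup G) ≠ ⊥ :=
    fun h => hHne (le_bot_iff.mp (h ▸ hHR))
  have hNtop : normalizer (H : Set G) = ⊤ := by
    by_contra hNtop
    apply hHN
    apply thmAt_subgroup _ (IH _ (card_lt_of_ne_top _ hNtop)) _ hRN hRp hRnd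
    · by_cases hRP : normalizer (H : Set G) ⊓ (P : Subgroup G) = (P : Subgroup G)
      · rw [hRP]
        exact hJ.mono inf_le_left
      · obtain ⟨y, hyP, hyN, hyR⟩ := Cfsg.Agent.Lib.helper67.exists_normalizer_not_mem
          (P : Subgroup G) hPp _ inf_le_right hRP
        by_contra hcon
        have hJ𝓗 : thompsonSubgroupOf p (normalizer (H : Set G) ⊓ (P : Subgroup G)) ∈ badFam p G :=
          ⟨hRp.to_le (Cfsg.Agent.Lib.helper13.thompsonSubgroupOf_le_self _),
            thompsonSubgroupOf_ne_bot _ hRp hRne, fun h => hcon (h.mono inf_le_left)⟩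
        have h1 := hM1 _ hJ𝓗
        have hle : normalizer (H : Set G) ⊓ (P : Subgroup G) ≤
            normalizer (thompsonSubgroupOf p (normalizer (H : Set G) ⊓ (P : Subgroup G)) : Set G)
              ⊓ (P : Subgroup G) :=
          le_inf (le_normalizer.trans
            (Cfsg.Agent.Lib.helper13.normalizer_le_normalizer_thompsonSubgroupOf p _)) inf_le_right
        have hy : y ∈
            normalizer (thompsonSubgroupOf p (normalizer (H : Set G) ⊓ (P : Subgroup G)) : Set G)
              ⊓ (P : Subgroup G) :=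
          mem_inf.mpr
            ⟨Cfsg.Agent.Lib.helper13.normalizer_le_normalizer_thompsonSubgroupOf p _ hyN, hyP⟩
        have heq := eq_of_le_of_card_ge hle h1
        exact hyR (heq ▸ hy)
    · refine hZ.mono (inf_le_left.trans (centralizer_le ?_))
      intro z hz
      have hz' : z ∈ (P : Subgroup G) ⊓ centralizer ((P : Subgroup G) : Set G) := hz
      have hzP := (mem_inf.mp hz').1
      have hzC := (mem_inf.mp hz').2
      have hzH : z ∈ normalizer (H : Set G) :=
        centralizer_le_normalizer _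
          (centralizer_le (show (H : Set G) ⊆ ((P : Subgroup G) : Set G) from hHP) hzC)
      exact mem_inf.mpr ⟨mem_inf.mpr ⟨hzH, hzP⟩,
        centralizer_le (show ((normalizer (H : Set G) ⊓ (P : Subgroup G) : Subgroup G) : Set G)
          ⊆ ((P : Subgroup G) : Set G) from inf_le_right) hzC⟩
  have hHn : H.Normal := normalizer_eq_top_iff.mp hNtop
  refine ⟨H, hHn, hHp, hHne, hHP, ?_⟩
  intro H' hH'p hHH' hPH' hH'N
  have hH'bad : H' ∈ badFam p G := ⟨hH'p, fun h => hHne (le_bot_iff.mp (h ▸ hHH')), hH'N⟩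
  have h1 : normalizer (H' : Set G) ⊓ (P : Subgroup G)
      = normalizer (H : Set G) ⊓ (P : Subgroup G) := by
    rw [hNtop, top_inf_eq, inf_eq_right.mpr hPH']
  have h2 := hM2 H' hH'bad (by rw [h1])
  exact (eq_of_le_of_card_ge hHH' h2).symm

/-- The final configuration of Thompson's theorem is contradictory. -/
theorem final_config {p : ℕ} [hp : Fact p.Prime] (hp2 : p ≠ 2) {G : Type u} [Group G] [Finite G]
    (IH : ∀ (X : Type u) [Group X] [Finite X], Nat.card X < Nat.card G → ThmAt p X)
    (P : Sylow p G)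
    (hJ : PN p (normalizer (thompsonSubgroupOf p (P : Subgroup G) : Set G)))
    (hZ : PN p (centralizer (((P : Subgroup G) ⊓ centralizer ((P : Subgroup G) : Set G)
      : Subgroup G) : Set G)))
    (hG : ¬ PN p (⊤ : Subgroup G))
    (hT0 : ∀ T : Subgroup G, T.Normal → (Nat.card T).Coprime p → T = ⊥)
    (H : Subgroup G) [hHn : H.Normal] (hHp : IsPGroup p H) (hHne : H ≠ ⊥)
    (hHP : H ≤ (P : Subgroup G))
    (hmax : ∀ H' : Subgroup G, IsPGroup p H' → H ≤ H' →
      (P : Subgroup G) ≤ normalizer (H' : Set G) → ¬ PN p (normalizer (H' : Set G)) → H' = H) :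
    False := by
  classical
  have hPp : IsPGroup p (P : Subgroup G) := P.isPGroup'
  -- normal `p`-subgroups lie in `H`
  have h4 : ∀ C : Subgroup G, C.Normal → IsPGroup p C → C ≤ H := by
    intro C hCn hCp
    haveI := hCn
    have h1 : IsPGroup p (H ⊔ C : Subgroup G) := IsPGroup.to_sup_of_normal_right hHp hCp
    have h2 : (H ⊔ C).Normal := inferInstance
    have h3 := hmax (H ⊔ C) h1 le_sup_left le_normalizer_of_normal
      (by rw [normalizer_eq_top_iff.mpr h2]; exact hG)
    exact h3 ▸ le_sup_right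
  have hfs : Function.Surjective (QuotientGroup.mk' H) := QuotientGroup.mk'_surjective H
  have hfker : (QuotientGroup.mk' H).ker = H := QuotientGroup.ker_mk' H
  have hf1 : ∀ x : G, QuotientGroup.mk' H x = 1 ↔ x ∈ H := fun x => by
    rw [← MonoidHom.mem_ker, hfker]
  have hPn : ∀ X : Subgroup (G ⧸ H),
      (P : Subgroup G).map (QuotientGroup.mk' H) ≤ normalizer (X : Set (G ⧸ H)) →
      (P : Subgroup G) ≤ normalizer ((X.comap (QuotientGroup.mk' H) : Subgroup G) : Set G) := by
    intro X hX u hu
    exact le_normalizer_comap (QuotientGroup.mk' H) (mem_comap.mpr (hX (mem_map_of_mem _ hu)))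
  have hcomapne : ∀ X : Subgroup (G ⧸ H), X ≠ ⊥ → X.comap (QuotientGroup.mk' H) ≠ H := by
    intro X hX h
    apply hX
    rw [← map_comap_eq_self_of_surjective hfs X, h, Subgroup.map_eq_bot_iff, hfker]
  have hHcomap : ∀ X : Subgroup (G ⧸ H), H ≤ X.comap (QuotientGroup.mk' H) := by
    intro X
    have := ker_le_comap (QuotientGroup.mk' H) X
    rwa [hfker] at this
  -- `G/H` is `p`-nilpotent
  have hQ : PN p (⊤ : Subgroup (G ⧸ H)) := by
    by_cases hPH : (P : Subgroup G) ≤ H
    · have hcop : (Nat.card (G ⧸ H)).Coprime p := by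
        rw [← index_eq_card]
        exact ((Nat.Prime.coprime_iff_not_dvd hp.out).mpr
          (fun h => P.not_dvd_index (h.trans (index_dvd_of_le hPH)))).symm
      intro x _ y _ _ _
      exact Nat.Coprime.coprime_dvd_left (orderOf_dvd_natCard _) hcop
    · have hPbar : (P : Subgroup G).map (QuotientGroup.mk' H) ≠ ⊥ := by
        intro h
        rw [Subgroup.map_eq_bot_iff, hfker] at h
        exact hPH h
      have hPbarp : IsPGroup p ((P : Subgroup G).map (QuotientGroup.mk' H)) := hPp.map _
      have hcom : ∀ X : Subgroup (G ⧸ H), X ≤ (P : Subgroup G).map (QuotientGroup.mk' H) →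
          X ≠ ⊥ → (P : Subgroup G).map (QuotientGroup.mk' H) ≤ normalizer (X : Set (G ⧸ H)) →
          PN p (normalizer ((X.comap (QuotientGroup.mk' H) : Subgroup G) : Set G)) := by
        intro X hXP hXne hXn
        by_contra hcon
        have h1 := hmax (X.comap (QuotientGroup.mk' H))
          ((hPbarp.to_le hXP).comap_of_ker_isPGroup _ (by rw [hfker]; exact hHp))
          (hHcomap X) (hPn X hXn) hcon
        exact hcomapne X hXne h1
      apply PN_quot_of_normalizers H (IH _ (card_quot_lt H hHne)) P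
      · exact hcom _ (Cfsg.Agent.Lib.helper13.thompsonSubgroupOf_le_self _)
          (thompsonSubgroupOf_ne_bot _ hPbarp hPbar)
          (le_normalizer.trans
            (Cfsg.Agent.Lib.helper13.normalizer_le_normalizer_thompsonSubgroupOf p _))
      · refine hcom _ inf_le_left (inf_centralizer_ne_bot _ hPbarp hPbar) ?_
        intro u hu
        apply Cfsg.Agent.Lib.helper13.mem_normalizer_of_forall_conj_mem
        intro x hx
        have hxc := mem_centralizer_iff.mp (mem_inf.mp hx).2 u hu
        have : u * x * u⁻¹ = x := by rw [hxc, mul_inv_cancel_right]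
        rw [this]
        exact hx
  -- `K = O_{p,p'}(G)`
  have hKn : ((ppSub p hQ).comap (QuotientGroup.mk' H)).Normal := inferInstance
  have hHK : H ≤ (ppSub p hQ).comap (QuotientGroup.mk' H) := hHcomap _
  have hpK : ∀ g : G, (orderOf g).Coprime p → g ∈ (ppSub p hQ).comap (QuotientGroup.mk' H) :=
    fun g hg => Nat.Coprime.coprime_dvd_left (orderOf_map_dvd (QuotientGroup.mk' H) g) hg
  have hKm : ∀ x ∈ (ppSub p hQ).comap (QuotientGroup.mk' H), ∃ m : ℕ, m.Coprime p ∧ x ^ m ∈ H :=
    fun x hx => ⟨orderOf (QuotientGroup.mk' H x), hx, by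
      rw [← hf1, map_pow, pow_orderOf_eq_one]⟩
  have hKp : ∀ x ∈ (ppSub p hQ).comap (QuotientGroup.mk' H), ∀ j : ℕ, x ^ (p ^ j) = 1 → x ∈ H := by
    intro x hx j hj
    rw [← hf1]
    exact eq_one_of_pow_of_coprime (by rw [← map_pow, hj, map_one]) hx
  have hKP : ∀ g : G, ∃ k ∈ (ppSub p hQ).comap (QuotientGroup.mk' H), ∃ u ∈ (P : Subgroup G),
      g = k * u := by
    have hidx : ∃ n, ((ppSub p hQ).comap (QuotientGroup.mk' H)).index = p ^ n := by
      have hq : IsPGroup p (G ⧸ (ppSub p hQ).comap (QuotientGroup.mk' H)) := by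
        intro x
        obtain ⟨g, rfl⟩ := QuotientGroup.mk_surjective x
        obtain ⟨k, hk⟩ := exists_pow_coprime p g
        exact ⟨k, by rw [← QuotientGroup.mk_pow, QuotientGroup.eq_one_iff]; exact hpK _ hk⟩
      rw [index_eq_card]
      exact IsPGroup.iff_card.mp hq
    obtain ⟨n, hn⟩ := hidx
    have h1 : ((ppSub p hQ).comap (QuotientGroup.mk' H) ⊔ (P : Subgroup G)).index ∣ p ^ n :=
      hn ▸ index_dvd_of_le le_sup_left
    obtain ⟨j, -, hj⟩ := (Nat.dvd_prime_pow hp.out).mp h1
    have h2 : ¬ p ∣ ((ppSub p hQ).comap (QuotientGroup.mk' H) ⊔ (P : Subgroup G)).index :=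
      fun h => P.not_dvd_index (h.trans (index_dvd_of_le le_sup_right))
    have h3 : ((ppSub p hQ).comap (QuotientGroup.mk' H) ⊔ (P : Subgroup G)).index = 1 := by
      rw [hj] at h2 ⊢
      cases j with
      | zero => rfl
      | succ j => exact absurd (dvd_pow_self p (Nat.succ_ne_zero j)) h2
    have h4' : (ppSub p hQ).comap (QuotientGroup.mk' H) ⊔ (P : Subgroup G) = ⊤ := index_eq_one.mp h3
    intro g
    have hg : g ∈ (((ppSub p hQ).comap (QuotientGroup.mk' H) ⊔ (P : Subgroup G) : Subgroup G)
        : Set G) := by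
      rw [h4']
      exact mem_top g
    rw [normal_mul] at hg
    obtain ⟨k, hk, u, hu, rfl⟩ := Set.mem_mul.mp hg
    exact ⟨k, hk, u, hu, rfl⟩
  -- `C_G(H) ≤ H`
  have hCH : centralizer (H : Set G) ≤ H := by
    have hCn : (centralizer (H : Set G)).Normal := normal_centralizer
    have hpC : ∀ g ∈ centralizer (H : Set G), (orderOf g).Coprime p → g = 1 := by
      have hDn : (centralizer (H : Set G) ⊓ (ppSub p hQ).comap (QuotientGroup.mk' H)).Normal :=
        inferInstance
      have hZs : IsPGroup p ((H ⊓ centralizer (H : Set G)).subgroupOf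
          (centralizer (H : Set G) ⊓ (ppSub p hQ).comap (QuotientGroup.mk' H))) :=
        (hHp.to_le inf_le_left).comap_subtype
      haveI : (H ⊓ centralizer (H : Set G)).Normal := inferInstance
      haveI : ((H ⊓ centralizer (H : Set G)).subgroupOf
          (centralizer (H : Set G) ⊓ (ppSub p hQ).comap (QuotientGroup.mk' H))).Normal :=
        inferInstance
      have hnd : ¬ p ∣ ((H ⊓ centralizer (H : Set G)).subgroupOf
          (centralizer (H : Set G) ⊓ (ppSub p hQ).comap (QuotientGroup.mk' H))).index := by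
        intro hdvd
        rw [index_eq_card] at hdvd
        obtain ⟨x, hx⟩ := exists_prime_orderOf_dvd_card' p hdvd
        obtain ⟨d, rfl⟩ := QuotientGroup.mk_surjective x
        obtain ⟨m, hm, hmH⟩ := hKm (d : G) (mem_inf.mp d.2).2
        have h1 : (QuotientGroup.mk (d ^ m) : _ ⧸ (H ⊓ centralizer (H : Set G)).subgroupOf
            (centralizer (H : Set G) ⊓ (ppSub p hQ).comap (QuotientGroup.mk' H))) = 1 := by
          rw [QuotientGroup.eq_one_iff, mem_subgroupOf]
          exact mem_inf.mpr ⟨by simpa using hmH,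
            by simpa using (centralizer (H : Set G)).pow_mem (mem_inf.mp d.2).1 m⟩
        rw [QuotientGroup.mk_pow] at h1
        have h2 := orderOf_dvd_of_pow_eq_one h1
        rw [hx] at h2
        exact (Nat.Prime.coprime_iff_not_dvd hp.out).mp hm.symm h2
      have hcen : ((hZs.toSylow hnd : Sylow p _) : Subgroup _) ≤ center
          (centralizer (H : Set G) ⊓ (ppSub p hQ).comap (QuotientGroup.mk' H) : Subgroup G) := by
        rw [IsPGroup.toSylow_coe]
        intro z hz
        rw [mem_subgroupOf] at hz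
        rw [mem_center_iff]
        intro d
        apply Subtype.ext
        have := mem_centralizer_iff.mp (mem_inf.mp d.2).1 (z : G) (mem_inf.mp hz).1
        simpa using this.symm
      obtain ⟨K₀, hK₀n, hK₀, -⟩ := Cfsg.Agent.Lib.helper40.central_sylow_pprime_subgroup _ hcen
      have hTmem : ∀ g : G, g ∈ K₀.map (Subgroup.subtype _) ↔
          g ∈ centralizer (H : Set G) ⊓ (ppSub p hQ).comap (QuotientGroup.mk' H) ∧
            (orderOf g).Coprime p := by
        intro g
        constructor
        · rintro ⟨d, hd, rfl⟩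
          exact ⟨d.2, by rw [coe_subtype, orderOf_coe]; exact (hK₀ d).mp hd⟩
        · rintro ⟨hgD, hgo⟩
          exact ⟨⟨g, hgD⟩, (hK₀ _).mpr (by rw [← orderOf_coe]; exact hgo), rfl⟩
      have hTn : (K₀.map (Subgroup.subtype _)).Normal := by
        refine ⟨fun t ht g => ?_⟩
        rw [hTmem] at ht ⊢
        exact ⟨hDn.conj_mem t ht.1 g, by rw [← MulAut.conj_apply, MulEquiv.orderOf_eq]; exact ht.2⟩
      have hTc : (Nat.card (K₀.map (Subgroup.subtype _))).Coprime p := by
        rw [Nat.coprime_comm, Nat.Prime.coprime_iff_not_dvd hp.out]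
        intro hdvd
        obtain ⟨t, ht⟩ := exists_prime_orderOf_dvd_card' p hdvd
        have h1 := ((hTmem (t : G)).mp t.2).2
        rw [orderOf_coe, ht] at h1
        exact hp.out.ne_one ((Nat.coprime_self p).mp h1)
      have hTbot := hT0 _ hTn hTc
      intro g hgC hgo
      have : g ∈ K₀.map (Subgroup.subtype _) := (hTmem g).mpr ⟨mem_inf.mpr ⟨hgC, hpK g hgo⟩, hgo⟩
      rw [hTbot, mem_bot] at this
      exact this
    exact h4 _ hCn (isPGroup_of_forall_pprime_eq_one _ hpC)
  -- `p`-nilpotent subgroups containing `H` have no nontrivial `p'`-elements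
  have h8 : ∀ M : Subgroup G, PN p M → H ≤ M → ∀ g ∈ M, (orderOf g).Coprime p → g = 1 := by
    intro M hM hHM g hgM hgo
    have h1 := hM.mem_centralizer H hHp hHM hgM
      (by rw [normalizer_eq_top_iff.mpr hHn]; exact mem_top g) hgo
    exact eq_one_of_mem_of_coprime hHp (hCH h1) hgo
  have hKPH : ∀ u ∈ (ppSub p hQ).comap (QuotientGroup.mk' H), u ∈ (P : Subgroup G) → u ∈ H := by
    intro u huK huP
    obtain ⟨j, hj⟩ := hPp ⟨u, huP⟩
    exact hKp u huK j (by simpa using congrArg Subtype.val hj)
  -- no proper nontrivial `P`-invariant subgroup of `K/H`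
  have h9 : ∀ K₀ : Subgroup G, H ≤ K₀ → K₀ ≤ (ppSub p hQ).comap (QuotientGroup.mk' H) →
      (P : Subgroup G) ≤ normalizer (K₀ : Set G) →
      K₀ ≠ (ppSub p hQ).comap (QuotientGroup.mk' H) → K₀ = H := by
    intro K₀ hHK₀ hK₀K hPK₀ hne
    have hMne : K₀ ⊔ (P : Subgroup G) ≠ ⊤ := by
      intro htop
      apply hne
      apply le_antisymm hK₀K
      intro x hx
      have hx' : x ∈ ((K₀ ⊔ (P : Subgroup G) : Subgroup G) : Set G) := by
        rw [htop]
        exact mem_top x
      rw [coe_mul_of_right_le_normalizer_left K₀ (P : Subgroup G) hPK₀] at hx'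
      obtain ⟨k, hk, u, hu, rfl⟩ := Set.mem_mul.mp hx'
      have huK : u ∈ (ppSub p hQ).comap (QuotientGroup.mk' H) := by
        have : u = k⁻¹ * (k * u) := by group
        rw [this]
        exact Subgroup.mul_mem _ (Subgroup.inv_mem _ (hK₀K hk)) hx
      exact K₀.mul_mem hk (hHK₀ (hKPH u huK hu))
    have hnd : ¬ p ∣ (P : Subgroup G).relIndex (K₀ ⊔ (P : Subgroup G)) :=
      fun h => P.not_dvd_index (h.trans (relIndex_dvd_index_of_le le_sup_right))
    have hPNM : PN p (K₀ ⊔ (P : Subgroup G)) :=
      thmAt_subgroup _ (IH _ (card_lt_of_ne_top _ hMne)) (P : Subgroup G) le_sup_right hPp hnd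
        (hJ.mono inf_le_left) (hZ.mono inf_le_left)
    apply le_antisymm _ hHK₀
    intro x hx
    obtain ⟨k, hk⟩ := exists_pow_coprime p x
    have h1 := h8 _ hPNM (hHK₀.trans le_sup_left) (x ^ (p ^ k))
      (Subgroup.pow_mem _ (mem_sup_left hx) _) hk
    exact hKp x (hK₀K hx) k h1
  -- `K/H` is abelian
  have h10 : ∀ x ∈ (ppSub p hQ).comap (QuotientGroup.mk' H),
      ∀ y ∈ (ppSub p hQ).comap (QuotientGroup.mk' H), ⁅x, y⁆ ∈ H := by
    by_cases hKH : (ppSub p hQ).comap (QuotientGroup.mk' H) = H
    · intro x hx y hy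
      rw [← hKH, commutatorElement_def]
      exact Subgroup.mul_mem _ (Subgroup.mul_mem _ (Subgroup.mul_mem _ hx hy)
        (Subgroup.inv_mem _ hx)) (Subgroup.inv_mem _ hy)
    · have hLne : ppSub p hQ ≠ ⊥ := by
        intro h
        apply hKH
        rw [h, MonoidHom.comap_bot, hfker]
      have hpL : ¬ p ∣ Nat.card (ppSub p hQ) := by
        intro hdvd
        obtain ⟨t, ht⟩ := exists_prime_orderOf_dvd_card' p hdvd
        have h1 : (orderOf (t : G ⧸ H)).Coprime p := t.2
        rw [orderOf_coe, ht] at h1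
        exact hp.out.ne_one ((Nat.coprime_self p).mp h1)
      have hcard1 : Nat.card (ppSub p hQ) ≠ 1 := fun h => hLne (eq_bot_of_card_eq _ h)
      obtain ⟨q, hq, hqL⟩ := Nat.exists_prime_and_dvd hcard1
      haveI : Fact q.Prime := ⟨hq⟩
      obtain ⟨Q, hQL, hQq, hPQ, hQcard⟩ := Cfsg.Agent.Lib.helper37.exists_invariant_sylow p q
        ((P : Subgroup G).map (QuotientGroup.mk' H)) (ppSub p hQ) (hPp.map _) hpL
        le_normalizer_of_normal
      have hQne : Q ≠ ⊥ := by
        intro h
        rw [h, card_bot] at hQcard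
        have hpos : 0 < (Nat.card (ppSub p hQ)).factorization q :=
          hq.factorization_pos_of_dvd Nat.card_pos.ne' hqL
        have := Nat.one_lt_pow hpos.ne' hq.one_lt
        omega
      have hQeq : Q.comap (QuotientGroup.mk' H) = (ppSub p hQ).comap (QuotientGroup.mk' H) := by
        by_contra hne
        exact hcomapne Q hQne (h9 _ (hHcomap Q) (comap_mono hQL) (hPn Q hPQ) hne)
      have hQL' : Q = ppSub p hQ := comap_injective hfs hQeq
      have hLq : IsPGroup q (ppSub p hQ) := hQL' ▸ hQq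
      have hDlt : ⁅ppSub p hQ, ppSub p hQ⁆ ≠ ppSub p hQ := by
        haveI : Nontrivial (ppSub p hQ) := (nontrivial_iff_ne_bot _).mpr hLne
        haveI : Group.IsNilpotent (ppSub p hQ) := hLq.isNilpotent
        have h1 := Group.IsSolvable.commutator_lt_top_of_nontrivial (ppSub p hQ)
        intro h
        rw [← map_subtype_commutator] at h
        have h2 : (_root_.commutator (ppSub p hQ)).map (ppSub p hQ).subtype
            = (⊤ : Subgroup (ppSub p hQ)).map (ppSub p hQ).subtype := by
          rw [h, ← MonoidHom.range_eq_map, range_subtype]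
        exact h1.ne (map_injective (ppSub p hQ).subtype_injective h2)
      have hDeq : (⁅ppSub p hQ, ppSub p hQ⁆ : Subgroup (G ⧸ H)).comap (QuotientGroup.mk' H) = H := by
        apply h9 _ (hHcomap _) (comap_mono (commutator_le_left _ _)) le_normalizer_of_normal
        intro h
        exact hDlt (comap_injective hfs h)
      have hDbot : (⁅ppSub p hQ, ppSub p hQ⁆ : Subgroup (G ⧸ H)) = ⊥ := by
        by_contra h
        exact hcomapne _ h hDeq
      intro x hx y hy
      rw [← hf1, map_commutatorElement]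
      have := commutator_mem_commutator (H₁ := ppSub p hQ) (H₂ := ppSub p hQ) hx hy
      rw [hDbot, mem_bot] at this
      exact this
  -- `W = Ω₁(Z(H))` is a faithful module for `G/H`
  have hWn : (omegaZ p H).Normal := inferInstance
  have hWH : omegaZ p H ≤ H := omegaZ_le H
  have hHcW : H ≤ centralizer (omegaZ p H : Set G) := le_centralizer_omegaZ H
  have hWel : IsElementaryAbelian p (omegaZ p H) := omegaZ_elemAb H
  have hZPH : ((P : Subgroup G) ⊓ centralizer ((P : Subgroup G) : Set G) : Subgroup G)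
      ≤ H ⊓ centralizer (H : Set G) := by
    intro z hz
    have hzc : z ∈ centralizer (H : Set G) :=
      centralizer_le (show (H : Set G) ⊆ ((P : Subgroup G) : Set G) from hHP) (mem_inf.mp hz).2
    exact mem_inf.mpr ⟨hCH hzc, hzc⟩
  have hCW : centralizer (omegaZ p H : Set G) ≤ H := by
    have hC₁n : (centralizer (omegaZ p H : Set G)).Normal := normal_centralizer
    by_cases hK₀ : centralizer (omegaZ p H : Set G) ⊓ (ppSub p hQ).comap (QuotientGroup.mk' H)
        = (ppSub p hQ).comap (QuotientGroup.mk' H)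
    · exfalso
      have hKC : (ppSub p hQ).comap (QuotientGroup.mk' H) ≤ centralizer (omegaZ p H : Set G) :=
        inf_eq_right.mp hK₀
      have hall : ∀ g : G, (orderOf g).Coprime p → g = 1 := by
        intro g hgo
        have hgW := hKC (hpK g hgo)
        have hZn : (H ⊓ centralizer (H : Set G)).Normal := inferInstance
        have hconj : ∀ z ∈ H ⊓ centralizer (H : Set G), g * z * g⁻¹ = z := by
          intro z hz
          obtain ⟨k, hk⟩ := hHp ⟨z, (mem_inf.mp hz).1⟩
          have hk' : z ^ (p ^ k) = 1 := by simpa using congrArg Subtype.val hk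
          refine conj_eq_of_conj_eq_omega (p := p) (H ⊓ centralizer (H : Set G)) ?_ g
            (fun z hz => hZn.conj_mem z hz g) hgo ?_ k z hz hk'
          · intro a ha b hb
            exact mem_centralizer_iff.mp (mem_inf.mp hb).2 a (mem_inf.mp ha).1
          · intro z hz hzp
            have hzW : z ∈ omegaZ p H := ⟨(mem_inf.mp hz).1, (mem_inf.mp hz).2, hzp⟩
            have := mem_centralizer_iff.mp hgW z hzW
            rw [← this, mul_inv_cancel_right]
        have hgC : g ∈ centralizer (((P : Subgroup G) ⊓ centralizer ((P : Subgroup G) : Set G)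
            : Subgroup G) : Set G) := by
          rw [mem_centralizer_iff]
          intro z hz
          have := hconj z (hZPH hz)
          calc z * g = g * z * g⁻¹ * g := by rw [this]
            _ = g * z := by group
        have hHM : H ≤ centralizer (((P : Subgroup G) ⊓ centralizer ((P : Subgroup G) : Set G)
            : Subgroup G) : Set G) := by
          intro h hh
          rw [mem_centralizer_iff]
          intro z hz
          exact (mem_centralizer_iff.mp (mem_inf.mp hz).2 h (hHP hh)).symm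
        exact h8 _ hZ hHM g hgC hgo
      apply hG
      intro x _ y _ hx hy
      rw [hall x hx, hall y hy, mul_one, orderOf_one]
      exact Nat.coprime_one_left p
    · have h1 := h9 (centralizer (omegaZ p H : Set G) ⊓ (ppSub p hQ).comap (QuotientGroup.mk' H))
        (le_inf hHcW hHK) inf_le_right le_normalizer_of_normal hK₀
      apply h4 _ hC₁n
      apply isPGroup_of_forall_pprime_eq_one
      intro g hg hgo
      have : g ∈ centralizer (omegaZ p H : Set G) ⊓ (ppSub p hQ).comap (QuotientGroup.mk' H) :=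
        mem_inf.mpr ⟨hg, hpK g hgo⟩
      rw [h1] at this
      exact eq_one_of_mem_of_coprime hHp this hgo
  -- stability: `p`-elements of `P` acting quadratically on `W` lie in `H`
  have hodd : Odd p := hp.out.odd_of_ne_two hp2
  have h12 : ∀ a ∈ (P : Subgroup G),
      (∀ v ∈ omegaZ p H, a * (a * v * a⁻¹ * v⁻¹) * a⁻¹ = a * v * a⁻¹ * v⁻¹) → a ∈ H := by
    intro a haP hquad
    have hcomm : ∀ y ∈ (ppSub p hQ).comap (QuotientGroup.mk' H), ⁅a, y⁆ ∈ H := by
      intro y hy
      apply hCW
      have hcK : ⁅a, y⁆ ∈ (ppSub p hQ).comap (QuotientGroup.mk' H) := by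
        rw [commutatorElement_def]
        exact Subgroup.mul_mem _ (hKn.conj_mem y hy a) (Subgroup.inv_mem _ hy)
      obtain ⟨m, hm, hmH⟩ := hKm _ hcK
      exact commutator_mem_centralizer_of_quadratic (omegaZ p H) hodd
        (fun a ha b hb => mem_centralizer_iff.mp hb.2.1 a ha.1) (fun v hv => hv.2.2) a y hquad
        (hHcW (h10 y hy _ (hKn.conj_mem y hy a)))
        (hHcW (h10 y hy _ (hKn.conj_mem y hy (a ^ 2)))) m hm (hHcW hmH)
    have hcLn : (centralizer ((ppSub p hQ : Subgroup (G ⧸ H)) : Set (G ⧸ H))).Normal :=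
      normal_centralizer
    have hSdef : ∀ s : G, s ∈ (P : Subgroup G) ⊓
        (centralizer ((ppSub p hQ : Subgroup (G ⧸ H)) : Set (G ⧸ H))).comap (QuotientGroup.mk' H) ↔
        s ∈ (P : Subgroup G) ∧ QuotientGroup.mk' H s ∈
          centralizer ((ppSub p hQ : Subgroup (G ⧸ H)) : Set (G ⧸ H)) :=
      fun s => by rw [mem_inf, mem_comap]
    have haS : a ∈ (P : Subgroup G) ⊓
        (centralizer ((ppSub p hQ : Subgroup (G ⧸ H)) : Set (G ⧸ H))).comap (QuotientGroup.mk' H) := by
      rw [hSdef]
      refine ⟨haP, ?_⟩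
      rw [mem_centralizer_iff]
      intro l hl
      obtain ⟨y, rfl⟩ := hfs l
      have h1 := (hf1 _).mpr (hcomm y hl)
      rw [map_commutatorElement, commutatorElement_eq_one_iff_mul_comm] at h1
      exact h1.symm
    have hHS : H ≤ (P : Subgroup G) ⊓
        (centralizer ((ppSub p hQ : Subgroup (G ⧸ H)) : Set (G ⧸ H))).comap (QuotientGroup.mk' H) := by
      intro h hh
      rw [hSdef]
      refine ⟨hHP hh, ?_⟩
      rw [(hf1 h).mpr hh]
      exact Subgroup.one_mem _
    have hSn : ((P : Subgroup G) ⊓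
        (centralizer ((ppSub p hQ : Subgroup (G ⧸ H)) : Set (G ⧸ H))).comap
          (QuotientGroup.mk' H)).Normal := by
      rw [← normalizer_eq_top_iff]
      apply top_le_iff.mp
      intro g _
      obtain ⟨k, hk, u, hu, rfl⟩ := hKP g
      apply Subgroup.mul_mem
      · apply Cfsg.Agent.Lib.helper13.mem_normalizer_of_forall_conj_mem
        intro s hs
        have hs' := (hSdef s).mp hs
        have h1 : ⁅k, s⁆ ∈ H := by
          rw [← hf1, map_commutatorElement, commutatorElement_eq_one_iff_mul_comm]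
          exact mem_centralizer_iff.mp hs'.2 (QuotientGroup.mk' H k) hk
        have h2 : k * s * k⁻¹ = ⁅k, s⁆ * s := by
          rw [commutatorElement_def]
          group
        rw [h2]
        exact Subgroup.mul_mem _ (hHS h1) hs
      · apply Cfsg.Agent.Lib.helper13.mem_normalizer_of_forall_conj_mem
        intro s hs
        have hs' := (hSdef s).mp hs
        rw [hSdef]
        refine ⟨(P : Subgroup G).mul_mem ((P : Subgroup G).mul_mem hu hs'.1)
          ((P : Subgroup G).inv_mem hu), ?_⟩
        rw [map_mul, map_mul, map_inv]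
        exact hcLn.conj_mem _ hs'.2 _
    haveI := hSn
    have hSeq := hmax _ (hPp.to_le inf_le_left) hHS le_normalizer_of_normal
      (by rw [normalizer_eq_top_iff.mpr hSn]; exact hG)
    rw [hSeq] at haS
    exact haS
  -- every elementary abelian subgroup of `P` of maximal order lies in `H`
  obtain ⟨A₁, hA₁⟩ := Cfsg.Agent.Lib.helper13.maxElementaryAbelian_nonempty p G
  obtain ⟨g₀, hg₀⟩ := Cfsg.Agent.Lib.helper13.exists_conj_map_le_sylow
    (Cfsg.Agent.Lib.helper13.elemAb_isPGroup hA₁.1) P
  have hA₀ := Cfsg.Agent.Lib.helper13.mem_max_map_equiv (MulAut.conj g₀) hA₁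
  have hall : ∀ A ∈ Cfsg.Agent.Lib.helper13.maxIn p (P : Subgroup G), A ≤ H := by
    intro A hA
    have hA' : A ∈ maxElementaryAbelianSubgroups p G := by
      have h1 := Cfsg.Agent.Lib.helper13.subgroupOf_mem_max_of_mem_maxIn hA
      have h2 := (Cfsg.Agent.Lib.helper13.mem_max_subgroup_iff hA₀ hg₀
        (A.subgroupOf (P : Subgroup G))).mp h1
      rwa [map_subgroupOf_eq_of_le hA.1] at h2
    obtain ⟨-, hquad, hne⟩ := Cfsg.Agent.S0607.result (omegaZ p H) hWel A hA'
    have hA'P : ⁅omegaZ p H, A⁆ ⊔ (A ⊓ centralizer ((⁅omegaZ p H, A⁆ : Subgroup G) : Set G))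
        ≤ (P : Subgroup G) :=
      sup_le ((commutator_le_left _ A).trans (hWH.trans hHP)) (inf_le_left.trans hA.1)
    have hA'H : ⁅omegaZ p H, A⁆ ⊔ (A ⊓ centralizer ((⁅omegaZ p H, A⁆ : Subgroup G) : Set G))
        ≤ H := by
      intro a ha
      apply h12 a (hA'P ha)
      intro v hv
      have h1 : ⁅⁅v, a⁆, a⁆ ∈ ⁅⁅omegaZ p H,
          ⁅omegaZ p H, A⁆ ⊔ (A ⊓ centralizer ((⁅omegaZ p H, A⁆ : Subgroup G) : Set G))⁆,
          ⁅omegaZ p H, A⁆ ⊔ (A ⊓ centralizer ((⁅omegaZ p H, A⁆ : Subgroup G) : Set G))⁆ :=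
        commutator_mem_commutator (commutator_mem_commutator hv ha) ha
      rw [hquad, mem_bot, commutatorElement_eq_one_iff_mul_comm] at h1
      have h2 : a * v * a⁻¹ * v⁻¹ = ⁅v, a⁆⁻¹ := by
        rw [commutatorElement_def]
        group
      rw [h2]
      have h3 : a * ⁅v, a⁆⁻¹ = ⁅v, a⁆⁻¹ * a :=
        (Commute.inv_left (show Commute ⁅v, a⁆ a from h1)).eq.symm
      rw [h3, mul_inv_cancel_right]
    have h3 : ⁅omegaZ p H,
        ⁅omegaZ p H, A⁆ ⊔ (A ⊓ centralizer ((⁅omegaZ p H, A⁆ : Subgroup G) : Set G))⁆ = ⊥ := by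
      rw [commutator_eq_bot_iff_le_centralizer]
      intro w hw
      rw [mem_centralizer_iff]
      intro a ha
      exact (mem_centralizer_iff.mp (hHcW (hA'H ha)) w hw).symm
    have h4' : ⁅omegaZ p H, A⁆ = ⊥ := by
      by_contra h
      exact hne h h3
    rw [commutator_eq_bot_iff_le_centralizer] at h4'
    refine le_trans ?_ hCW
    intro a ha
    rw [mem_centralizer_iff]
    intro w hw
    exact (mem_centralizer_iff.mp (h4' hw) a ha).symm
  have hJH : thompsonSubgroupOf p (P : Subgroup G) ≤ H := by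
    rw [Cfsg.Agent.Lib.helper13.thompsonSubgroupOf_eq_sSup]
    exact sSup_le hall
  have hJeq := Cfsg.Agent.Lib.helper13.thompsonSubgroupOf_eq_of_le hHP hJH
  have hNJ : normalizer (thompsonSubgroupOf p (P : Subgroup G) : Set G) = ⊤ := by
    rw [← hJeq]
    apply top_le_iff.mp
    rw [← normalizer_eq_top_iff.mpr hHn]
    exact Cfsg.Agent.Lib.helper13.normalizer_le_normalizer_thompsonSubgroupOf p H
  rw [hNJ] at hJ
  exact hG hJ

/-- **Thompson's normal `p`-complement theorem**, by induction on the order. -/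
theorem thmAt_all (p : ℕ) [hp : Fact p.Prime] (hp2 : p ≠ 2) :
    ∀ (n : ℕ) (G : Type u) [Group G] [Finite G], Nat.card G = n → ThmAt p G := by
  intro n
  induction n using Nat.strong_induction_on with
  | _ n ih =>
  intro G _ _ hn P hJ hZ
  by_contra hG
  have IH : ∀ (X : Type u) [Group X] [Finite X], Nat.card X < Nat.card G → ThmAt p X :=
    fun X _ _ hX => ih (Nat.card X) (hn ▸ hX) X rfl
  have hT0 : ∀ T : Subgroup G, T.Normal → (Nat.card T).Coprime p → T = ⊥ := by
    intro T hTn hT
    by_contra hne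
    haveI := hTn
    exact hG (PN_top_of_normal_pprime T hT (IH _ (card_quot_lt T hne)) P hJ hZ)
  obtain ⟨H, hHn, hHp, hHne, hHP, hmax⟩ := exists_core IH P hJ hZ hG
  haveI := hHn
  exact final_config hp2 IH P hJ hZ hG hT0 H hHp hHne hHP hmax

/-- **Thompson's normal `p`-complement theorem** (`PN` form): for `p` odd, if `N_G(J(P))` and
`C_G(Z(P))` are `p`-nilpotent then `G` is `p`-nilpotent. -/
theorem thompson_pn {p : ℕ} [Fact p.Prime] (hp2 : p ≠ 2) {G : Type u} [Group G] [Finite G]
    (P : Sylow p G)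
    (hJ : PN p (normalizer (thompsonSubgroupOf p (P : Subgroup G) : Set G)))
    (hZ : PN p (centralizer (((P : Subgroup G) ⊓ centralizer ((P : Subgroup G) : Set G)
      : Subgroup G) : Set G))) :
    PN p (⊤ : Subgroup G) :=
  thmAt_all p hp2 _ G rfl P hJ hZ

end Cfsg.Agent.Lib.lead
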