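import Mathlib
import Cfsg.Prelude.Def_CaseTheorems
import Cfsg.Prelude.Def_LocalEven
import Cfsg.Prelude.Def_PLocal
import Cfsg.Prelude.Def_ConjugacyFunctors
import Cfsg.Agent.Lib.lead.ThompsonPC
import Cfsg.Agent.Lib.helper1.GT
import Cfsg.Agent.Lib.helper39.Induced
import Cfsg.Agent.Lib.helper39.Sections

/-!
# `p`-stability (normalizer form) of groups `p`-group by abelian `p'`-group by `p`-group (lead)

* `InC p X` : `X` has normal subgroups `X₂`, `X₁` with `X₂` a `p`-group, `X₁` abelian of exponent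
  prime to `p` modulo `X₂`, and `X/X₁` a `p`-group; closed under subgroups (`InC.subgroup`) and
  homomorphic images (`InC.of_surjective`).
* `isPStableOn_of_inC` : for `p` odd the action of such a finite group on each of its normal
  `p`-subgroups is `p`-stable (from helper1's `isPStableOn_of_config`).
* `isNormalizerPStable_of_inC` : for `p` odd such finite groups are `p`-stable in the normalizer
  form.
* `inC_of_coatom` : a finite group `X` with `X/O_p(X)` `p`-nilpotent and a Sylow `p`-subgroup which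
  is a maximal subgroup lies in the class.
* `le_normalizer_inducedFunctor`, `normal_of_controlsStrongFusion` : if `C_X(O_p(X)) ≤ O_p(X)` and
  `W(T)` controls strong fusion then `W(T)` is normal in `X`.
-/

set_option autoImplicit false

namespace Cfsg.Agent.Lib.lead

open Subgroup Cfsg
open scoped commutatorElement

/-- The class of groups with normal subgroups `X₂`, `X₁`: `X₂` a `p`-group, `X₁` abelian of
exponent prime to `p` modulo `X₂`, `X/X₁` a `p`-group. -/
def InC (p : ℕ) (X : Type*) [Group X] : Prop :=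
  ∃ X₁ X₂ : Subgroup X, X₁.Normal ∧ X₂.Normal ∧ IsPGroup p X₂ ∧
    (∀ a ∈ X₁, ∀ b ∈ X₁, ⁅a, b⁆ ∈ X₂) ∧ (∃ m : ℕ, m.Coprime p ∧ ∀ a ∈ X₁, a ^ m ∈ X₂) ∧
    ∀ x : X, ∃ k : ℕ, x ^ (p ^ k) ∈ X₁

theorem InC.subgroup {p : ℕ} {X : Type*} [Group X] (h : InC p X) (M : Subgroup X) : InC p M := by
  obtain ⟨X₁, X₂, h1, h2, h4, h5, ⟨m, hm, h6⟩, h7⟩ := h
  refine ⟨X₁.subgroupOf M, X₂.subgroupOf M, h1.subgroupOf M, h2.subgroupOf M,
    h4.comap_subtype, ?_, ⟨m, hm, ?_⟩, ?_⟩
  · intro a ha b hb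
    rw [mem_subgroupOf] at ha hb ⊢
    have := h5 _ ha _ hb
    rw [commutatorElement_def] at this ⊢
    simpa using this
  · intro a ha
    rw [mem_subgroupOf] at ha ⊢
    simpa using h6 _ ha
  · intro x
    obtain ⟨k, hk⟩ := h7 (x : X)
    exact ⟨k, by rw [mem_subgroupOf]; simpa using hk⟩

theorem InC.of_surjective {p : ℕ} {X Y : Type*} [Group X] [Group Y] (h : InC p X) (f : X →* Y)
    (hf : Function.Surjective f) : InC p Y := by
  obtain ⟨X₁, X₂, h1, h2, h4, h5, ⟨m, hm, h6⟩, h7⟩ := h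
  refine ⟨X₁.map f, X₂.map f, h1.map f hf, h2.map f hf, h4.map f, ?_, ⟨m, hm, ?_⟩, ?_⟩
  · rintro _ ⟨a, ha, rfl⟩ _ ⟨b, hb, rfl⟩
    rw [← map_commutatorElement]
    exact mem_map_of_mem f (h5 a ha b hb)
  · rintro _ ⟨a, ha, rfl⟩
    rw [← map_pow]
    exact mem_map_of_mem f (h6 a ha)
  · intro y
    obtain ⟨x, rfl⟩ := hf y
    obtain ⟨k, hk⟩ := h7 x
    exact ⟨k, by rw [← map_pow]; exact mem_map_of_mem f hk⟩

/-- For `p` odd, the action of a finite group of the class `InC p` on each of its normal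
`p`-subgroups is `p`-stable. -/
theorem isPStableOn_of_inC {p : ℕ} [hp : Fact p.Prime] (hp2 : p ≠ 2) {Y : Type*} [Group Y]
    [Finite Y] (h : InC p Y) (V : Subgroup Y) [hVn : V.Normal] (hV : IsPGroup p V) :
    IsPStableOn p V := by
  obtain ⟨X₁, X₂, h1, h2, h4, h5, ⟨m, hm, h6⟩, h7⟩ := h
  have hOp : IsPGroup p (pCore p Y) := Sylow.sSup_of_normal _ (fun _ h => h.2) (fun _ h => h.1)
  have hX₂O : X₂ ≤ pCore p Y := le_sSup ⟨h2, h4⟩
  have hVO : V ≤ pCore p Y := le_sSup ⟨hVn, hV⟩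
  have hdecomp : ∀ k ∈ X₁ ⊔ pCore p Y, ∃ a ∈ X₁, ∃ b ∈ pCore p Y, k = a * b := by
    intro k hk
    have hk' : k ∈ ((X₁ ⊔ pCore p Y : Subgroup Y) : Set Y) := hk
    rw [normal_mul] at hk'
    obtain ⟨a, ha, b, hb, rfl⟩ := Set.mem_mul.mp hk'
    exact ⟨a, ha, b, hb, rfl⟩
  have hq1 : ∀ z : Y, (QuotientGroup.mk' (pCore p Y)) z = 1 ↔ z ∈ pCore p Y := fun z => by
    rw [← MonoidHom.mem_ker, QuotientGroup.ker_mk']
  apply Cfsg.Agent.Lib.helper1.isPStableOn_of_config p hp2 (pCore p Y) (X₁ ⊔ pCore p Y) hOp m hm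
  · intro k hk
    obtain ⟨a, ha, b, hb, rfl⟩ := hdecomp k hk
    rw [← hq1, map_pow, map_mul, (hq1 b).mpr hb, mul_one, ← map_pow, hq1]
    exact hX₂O (h6 a ha)
  · intro k₁ hk₁ k₂ hk₂
    obtain ⟨a₁, ha₁, b₁, hb₁, rfl⟩ := hdecomp k₁ hk₁
    obtain ⟨a₂, ha₂, b₂, hb₂, rfl⟩ := hdecomp k₂ hk₂
    rw [← hq1, map_commutatorElement, map_mul, map_mul, (hq1 b₁).mpr hb₁, (hq1 b₂).mpr hb₂,
      mul_one, mul_one, ← map_commutatorElement, hq1]
    exact hX₂O (h5 a₁ ha₁ a₂ ha₂)
  · have hq : IsPGroup p (Y ⧸ X₁) := by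
      intro x
      obtain ⟨g, rfl⟩ := QuotientGroup.mk_surjective x
      obtain ⟨k, hk⟩ := h7 g
      exact ⟨k, by rw [← QuotientGroup.mk_pow, QuotientGroup.eq_one_iff]; exact hk⟩
    obtain ⟨n, hn⟩ := IsPGroup.iff_card.mp hq
    rw [← index_eq_card] at hn
    have h8 : (X₁ ⊔ pCore p Y).index ∣ p ^ n := hn ▸ index_dvd_of_le le_sup_left
    obtain ⟨j, -, hj⟩ := (Nat.dvd_prime_pow hp.out).mp h8
    exact ⟨j, hj⟩
  · exact hVO

theorem mem_pCore_quot_congr {p : ℕ} {Y : Type*} [Group Y] (C C' : Subgroup Y) [C.Normal]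
    [C'.Normal] (h : C = C') (y : Y)
    (hy : (QuotientGroup.mk y : Y ⧸ C) ∈ pCore p (Y ⧸ C)) :
    (QuotientGroup.mk y : Y ⧸ C') ∈ pCore p (Y ⧸ C') := by
  subst h
  exact hy

/-- For `p` odd, a finite group of the class `InC p` is `p`-stable in the normalizer form. -/
theorem isNormalizerPStable_of_inC {p : ℕ} [hp : Fact p.Prime] (hp2 : p ≠ 2) {Y : Type*}
    [Group Y] [Finite Y] (h : InC p Y) : IsNormalizerPStable p Y := by
  intro P hP g hg hq
  have hV : IsPGroup p (P.subgroupOf (normalizer (P : Set Y))) := hP.comap_subtype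
  have hst := isPStableOn_of_inC hp2 (h.subgroup (normalizer (P : Set Y)))
    (P.subgroupOf (normalizer (P : Set Y))) hV
  have hq' : ⁅⁅P.subgroupOf (normalizer (P : Set Y)),
      zpowers (⟨g, hg⟩ : normalizer (P : Set Y))⁆,
      zpowers (⟨g, hg⟩ : normalizer (P : Set Y))⁆ = ⊥ := by
    apply (Subgroup.map_eq_bot_iff_of_injective _ (Subgroup.subtype_injective _)).mp
    rw [Subgroup.map_commutator, Subgroup.map_commutator, eq_bot_iff, ← hq, MonoidHom.map_zpowers]
    refine Subgroup.commutator_mono (Subgroup.commutator_mono ?_ le_rfl) le_rfl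
    rintro _ ⟨x, hx, rfl⟩
    exact hx
  have h3 := hst ⟨g, hg⟩ hq'
  exact mem_pCore_quot_congr _ _ (centralizer_subgroupOf P _ le_normalizer) _ h3

/-- A finite group `X` with `X/O_p(X)` `p`-nilpotent and a Sylow `p`-subgroup which is a maximal
subgroup lies in the class `InC p`. -/
theorem inC_of_coatom {p : ℕ} [hp : Fact p.Prime] {X : Type*} [Group X] [Finite X]
    (hquot : HasNormalPComplement p (X ⧸ pCore p X)) (T : Sylow p X)
    (hco : IsCoatom (T : Subgroup X)) : InC p X := by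
  obtain ⟨Kb, hKbn, hKbcop, j, hj⟩ :=
    Cfsg.Agent.Lib.helper40.exists_normal_coprime_of_hasNPC hquot
  have := hKbn
  have hcomm := Cfsg.Agent.Lib.helper1.comm_of_coatom p (pCore p X) Kb hKbcop T hco
  refine ⟨Kb.comap (QuotientGroup.mk' (pCore p X)), pCore p X, hKbn.comap _, inferInstance,
    Sylow.sSup_of_normal _ (fun _ h => h.2) (fun _ h => h.1), ?_, ⟨Nat.card Kb, hKbcop, ?_⟩, ?_⟩
  · intro k₁ hk₁ k₂ hk₂
    rw [← QuotientGroup.eq_one_iff]
    have h1 := hcomm _ hk₁ _ hk₂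
    show (QuotientGroup.mk' (pCore p X)) ⁅k₁, k₂⁆ = 1
    rw [map_commutatorElement, commutatorElement_eq_one_iff_commute]
    exact h1
  · intro k hk
    have h1 := pow_card_eq_one' (G := Kb) (x := ⟨QuotientGroup.mk k, hk⟩)
    have h2 : (QuotientGroup.mk k : X ⧸ pCore p X) ^ Nat.card Kb = 1 := congrArg Subtype.val h1
    rw [← QuotientGroup.eq_one_iff, QuotientGroup.mk_pow]
    exact h2
  · intro x
    refine ⟨j, ?_⟩
    have h1 : (Kb.comap (QuotientGroup.mk' (pCore p X))).index = p ^ j := by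
      rw [Subgroup.index_comap_of_surjective _ (QuotientGroup.mk'_surjective _)]
      exact hj
    rw [← h1]
    exact Subgroup.pow_index_mem _ x

universe u

/-- `W(T)` is normalized by `T` (`T` a finite `p`-subgroup, `W` isomorphism-invariant). -/
theorem le_normalizer_inducedFunctor {p : ℕ} {W : ∀ (Q : Type u) [Group Q], Subgroup Q}
    (hW : IsCharPFunctor.{u} p W) {X : Type u} [Group X] (T : Subgroup X) [Finite T]
    (hT : IsPGroup p T) : T ≤ normalizer (inducedFunctor W T : Set X) := by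
  intro t ht
  have h1 := Cfsg.Agent.Lib.helper39.ind_map hW (MulAut.conj t).toMonoidHom T hT
    ((MulAut.conj t).injective.injOn)
  have h2 : T.map (MulAut.conj t).toMonoidHom = T := by
    ext y
    constructor
    · rintro ⟨z, hz, rfl⟩
      exact mul_mem (mul_mem ht hz) (inv_mem ht)
    · intro hy
      refine ⟨t⁻¹ * y * t, mul_mem (mul_mem (inv_mem ht) hy) ht, ?_⟩
      show t * (t⁻¹ * y * t) * t⁻¹ = y
      group
  rw [h2] at h1
  rw [mem_normalizer_iff]
  intro y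
  constructor
  · intro hy
    rw [← h1]
    exact ⟨y, hy, rfl⟩
  · intro hy
    rw [← h1] at hy
    obtain ⟨z, hz, hzy⟩ := hy
    have h3 : t * z * t⁻¹ = t * y * t⁻¹ := hzy
    have h4 : z = y := by
      have := congrArg (fun w => t⁻¹ * w * t) h3
      simpa [mul_assoc] using this
    exact h4 ▸ hz

/-- If `C_X(O_p(X)) ≤ O_p(X)` and `W(T)` controls strong fusion in `X` (`T` a Sylow
`p`-subgroup), then `W(T)` is normal in `X`. -/
theorem normal_of_controlsStrongFusion {p : ℕ} [Fact p.Prime]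
    {W : ∀ (Q : Type u) [Group Q], Subgroup Q} (hW : IsCharPFunctor.{u} p W)
    {X : Type u} [Group X] [Finite X]
    (hcen : centralizer ((pCore p X : Subgroup X) : Set X) ≤ pCore p X) (T : Sylow p X)
    (hc : ControlsStrongFusion p (inducedFunctor W (T : Subgroup X))) :
    (inducedFunctor W (T : Subgroup X)).Normal := by
  obtain ⟨T₂, -, hctl⟩ := hc
  have hOT₂ : pCore p X ≤ T₂ := Cfsg.Agent.Lib.helper39.pCore_le_sylow T₂
  have hOT : pCore p X ≤ T := Cfsg.Agent.Lib.helper39.pCore_le_sylow T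
  have hTN := le_normalizer_inducedFunctor hW (T : Subgroup X) T.isPGroup'
  rw [← normalizer_eq_top_iff, eq_top_iff]
  intro g _
  obtain ⟨-, h2⟩ := hctl (pCore p X : Set X) hOT₂
  obtain ⟨x, hx, hxa⟩ := h2 g (by
    rintro _ ⟨a, ha, rfl⟩
    exact hOT₂ ((pCore_normal p X).conj_mem a ha g))
  have hz : x⁻¹ * g ∈ centralizer ((pCore p X : Subgroup X) : Set X) := by
    rw [mem_centralizer_iff]
    intro a ha
    have h3 := hxa a ha
    calc a * (x⁻¹ * g) = x⁻¹ * (x * a * x⁻¹) * g := by group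
      _ = x⁻¹ * (g * a * g⁻¹) * g := by rw [h3]
      _ = x⁻¹ * g * a := by group
  have h4 : g = x * (x⁻¹ * g) := by group
  rw [h4]
  exact mul_mem hx (hTN (hOT (hcen hz)))

end Cfsg.Agent.Lib.lead
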