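import Cfsg.Agent.Lib.helper22.ChevBNPair
import Cfsg.Agent.Lib.lead.Chunk

/-!
# Splitting the `bnOK` table check into chunks (lead)

`bnOK D η par` proved by a single `decide +kernel` keeps the kernel's caches for all
`rank * nroots` entries in memory at once (15 GiB for `E8`).  `bnOK_of_checks` assembles it from
the reachability check and one `allBelow` certificate per fundamental root, each of which is in
turn assembled from light chunks with `allBelow_of_chunks`.
-/

set_option autoImplicit false

namespace Cfsg.Agent.Lib.lead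

open Cfsg.Lie Cfsg.Agent.Lib.helper41 Cfsg.Agent.Lib.helper22

/-- One `(i, s)` entry of the table check `bnOK`. -/
def bnCheck (D : ChevalleyDatum) (η : ℕ → ℕ → ℤ) (i s : ℕ) : Bool :=
  decide (η i (D.neg s) = η i s) && (decide (D.reflectRoot i (D.neg s) = D.neg (D.reflectRoot i s)) &&
    (decide (s < D.nroots / 2) || (decide (s = D.simple i) ||
      (decide (D.nroots / 2 ≤ D.reflectRoot i s) && decide (D.reflectRoot i s ≠ D.simple i)))))

theorem bnOK_of_checks (D : ChevalleyDatum) (η : ℕ → ℕ → ℤ) (par : Array (ℕ × ℕ × ℕ))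
    (h1 : reachSOK D par = true)
    (h2 : ∀ i, i < D.rank → allBelow D.nroots (bnCheck D η i) = true) :
    bnOK D η par = true := by
  unfold bnOK
  rw [Bool.and_eq_true]
  refine ⟨h1, ?_⟩
  rw [List.all_eq_true]
  intro i hi
  rw [List.all_eq_true]
  intro s hs
  exact (allBelow_iff _ _).mp (h2 i (List.mem_range.mp hi)) s (List.mem_range.mp hs)

/-- One entry of the reachability check `reachSOK`. -/
def reachCheck (D : ChevalleyDatum) (par : Array (ℕ × ℕ × ℕ)) (r : ℕ) : Bool :=
  ((List.range D.rank).any fun j => r == D.simple j) ||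
    (decide ((par.getD r (0, 0, 0)).1 < D.nroots) && (decide ((par.getD r (0, 0, 0)).2.1 < D.rank) &&
      ((D.reflectRoot (par.getD r (0, 0, 0)).2.1 (par.getD r (0, 0, 0)).1 == r) &&
        decide ((par.getD (par.getD r (0, 0, 0)).1 (0, 0, 0)).2.2 < (par.getD r (0, 0, 0)).2.2))))

theorem reachSOK_of_checks (D : ChevalleyDatum) (par : Array (ℕ × ℕ × ℕ))
    (h : allBelow D.nroots (reachCheck D par) = true) : reachSOK D par = true := by
  unfold reachSOK
  rw [List.all_eq_true]
  intro r hr
  exact (allBelow_iff _ _).mp h r (List.mem_range.mp hr)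

end Cfsg.Agent.Lib.lead
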